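import Groth.Prelude.Def_SGA4a
import Mathlib.Algebra.Category.ModuleCat.Sheaf.PushforwardContinuous
import Mathlib.Algebra.Category.ModuleCat.Sheaf.PullbackContinuous
import Mathlib.Algebra.Category.ModuleCat.Sheaf.Limits
import Mathlib.Algebra.Category.ModuleCat.Sheaf.Colimits
import Mathlib.Algebra.Category.ModuleCat.Sheaf.Abelian
import Mathlib.Algebra.Category.ModuleCat.Presheaf.Abelian
import Mathlib.Algebra.Category.ModuleCat.Presheaf.EpiMono
import Mathlib.Algebra.DirectSum.Module
import Mathlib.Algebra.Homology.ShortComplex.ExactFunctor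
import Mathlib.CategoryTheory.Abelian.Exact
import Mathlib.CategoryTheory.Sites.Over
import Mathlib.CategoryTheory.Sites.LocallyInjective
import Mathlib.CategoryTheory.Sites.LeftExact
import Mathlib.Algebra.Category.Grp.FilteredColimits
import Mathlib.Algebra.Category.Grp.Abelian
import Mathlib.CategoryTheory.Preadditive.AdditiveFunctor
import Mathlib.CategoryTheory.Adjunction.Additive
import Mathlib.CategoryTheory.Adjunction.Restrict

/-!
Extension by zero of (pre)sheaves of modules from a slice site.
-/

set_option autoImplicit false
universe u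

open CategoryTheory Limits Opposite

namespace Groth.Agent.SGA45.ExtByZero

variable {C : Type u} [SmallCategory C] {X : C} {R : Cᵒᵖ ⥤ RingCat.{u}}

/-- The restriction of a presheaf of rings to the slice category. -/
abbrev Rx (X : C) (R : Cᵒᵖ ⥤ RingCat.{u}) : (Over X)ᵒᵖ ⥤ RingCat.{u} := (Over.forget X).op ⋙ R

variable (M : PresheafOfModules.{u} (Rx X R))

/-- The module over `W` attached to `f : W ⟶ X`. -/
abbrev fib (W : Cᵒᵖ) (f : W.unop ⟶ X) : ModuleCat.{u} (R.obj W) := M.obj (op (Over.mk f))

open Classical in
/-- The insertion of a summand. -/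
noncomputable def ins (W : Cᵒᵖ) (f : W.unop ⟶ X) :
    fib M W f →ₗ[R.obj W] DirectSum (W.unop ⟶ X) (fun f => fib M W f) :=
  DirectSum.lof (R.obj W) _ (fun f => fib M W f) f

/-- Restriction of an element along `g`. -/
noncomputable def restr {W V : Cᵒᵖ} (g : W ⟶ V) (f : W.unop ⟶ X) (a : V.unop ⟶ X)
    (h : g.unop ≫ f = a) (x : fib M W f) : fib M V a :=
  M.map (Over.homMk g.unop h : Over.mk a ⟶ Over.mk f).op x

lemma restr_add {W V : Cᵒᵖ} (g : W ⟶ V) (f : W.unop ⟶ X) (a : V.unop ⟶ X) (h : g.unop ≫ f = a)
    (x y : fib M W f) : restr M g f a h (x + y) = restr M g f a h x + restr M g f a h y :=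
  map_add (M.map (Over.homMk g.unop h : Over.mk a ⟶ Over.mk f).op).hom x y

lemma restr_smul {W V : Cᵒᵖ} (g : W ⟶ V) (f : W.unop ⟶ X) (a : V.unop ⟶ X) (h : g.unop ≫ f = a)
    (r : R.obj W) (x : fib M W f) :
    restr M g f a h (r • x) = (R.map g r) • restr M g f a h x :=
  M.map_smul (Over.homMk g.unop h : Over.mk a ⟶ Over.mk f).op r x

lemma ins_restr_congr {W V : Cᵒᵖ} (g : W ⟶ V) (f : W.unop ⟶ X) {a b : V.unop ⟶ X}
    (ha : g.unop ≫ f = a) (hb : g.unop ≫ f = b) (x : fib M W f) :
    ins M V a (restr M g f a ha x) = ins M V b (restr M g f b hb x) := by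
  obtain rfl := ha
  obtain rfl := hb
  rfl

open Classical in
/-- The transition map. -/
noncomputable def extMap {W V : Cᵒᵖ} (g : W ⟶ V) :
    DirectSum (W.unop ⟶ X) (fun f => fib M W f) →+ DirectSum (V.unop ⟶ X) (fun f => fib M V f) :=
  DirectSum.toAddMonoid fun f => AddMonoidHom.mk'
    (fun x => ins M V (g.unop ≫ f) (restr M g f _ rfl x)) fun x y => by
      rw [restr_add, map_add]

open Classical in
lemma extMap_ins {W V : Cᵒᵖ} (g : W ⟶ V) (f : W.unop ⟶ X) (x : fib M W f) :
    extMap M g (ins M W f x) = ins M V (g.unop ≫ f) (restr M g f _ rfl x) := by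
  rw [extMap, ins, DirectSum.lof_eq_of, DirectSum.toAddMonoid_of]
  rfl

open Classical in
lemma extMap_smul {W V : Cᵒᵖ} (g : W ⟶ V) (r : R.obj W)
    (z : DirectSum (W.unop ⟶ X) (fun f => fib M W f)) :
    extMap M g (r • z) = (R.map g r) • extMap M g z := by
  induction z using DirectSum.induction_on with
  | zero => simp
  | of f x =>
    rw [← DirectSum.lof_eq_of (R.obj W)]
    show extMap M g (r • ins M W f x) = R.map g r • extMap M g (ins M W f x)
    rw [← map_smul, extMap_ins, extMap_ins, restr_smul, map_smul]
  | add a b ha hb => rw [smul_add, map_add, ha, hb, map_add, smul_add]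

open Classical in
/-- The underlying presheaf of abelian groups of the extension by zero. -/
noncomputable def extPsh : Cᵒᵖ ⥤ Ab.{u} where
  obj W := AddCommGrpCat.of (DirectSum (W.unop ⟶ X) (fun f => fib M W f))
  map g := AddCommGrpCat.ofHom (extMap M g)
  map_id W := by
    apply AddCommGrpCat.hom_ext
    apply DirectSum.addHom_ext
    intro f x
    show extMap M (𝟙 W) (DirectSum.of _ f x) = DirectSum.of _ f x
    rw [← DirectSum.lof_eq_of (R.obj W)]
    show extMap M (𝟙 W) (ins M W f x) = ins M W f x
    rw [extMap_ins, ins_restr_congr M (𝟙 W) f rfl (Category.id_comp f)]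
    refine congrArg (ins M W f) ?_
    show M.presheaf.map (Over.homMk (𝟙 W.unop) (Category.id_comp f) : Over.mk f ⟶ Over.mk f).op x = x
    rw [show (Over.homMk (𝟙 W.unop) (Category.id_comp f) : Over.mk f ⟶ Over.mk f) = 𝟙 _ from rfl,
      op_id, M.presheaf.map_id]
    rfl
  map_comp {W V T} g g' := by
    apply AddCommGrpCat.hom_ext
    apply DirectSum.addHom_ext
    intro f x
    show extMap M (g ≫ g') (DirectSum.of _ f x) = extMap M g' (extMap M g (DirectSum.of _ f x))
    rw [← DirectSum.lof_eq_of (R.obj W)]
    show extMap M (g ≫ g') (ins M W f x) = extMap M g' (extMap M g (ins M W f x))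
    rw [extMap_ins, extMap_ins, extMap_ins,
      ins_restr_congr M (g ≫ g') f rfl (b := g'.unop ≫ g.unop ≫ f) (Category.assoc _ _ _)]
    refine congrArg (ins M T (g'.unop ≫ g.unop ≫ f)) ?_
    show M.presheaf.map _ x = M.presheaf.map _ (M.presheaf.map _ x)
    rw [← ConcreteCategory.comp_apply, ← M.presheaf.map_comp, ← op_comp]
    rfl

noncomputable instance (W : Cᵒᵖ) : Module (R.obj W) ((extPsh M).obj W) :=
  inferInstanceAs (Module (R.obj W) (DirectSum (W.unop ⟶ X) (fun f => fib M W f)))

/-- Extension by zero of a presheaf of modules. -/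
noncomputable def extObj : PresheafOfModules.{u} R :=
  PresheafOfModules.ofPresheaf (extPsh M) fun _ _ g r z => extMap_smul M g r z

variable {M}

open Classical in
/-- The component of the extension by zero of a morphism. -/
noncomputable def extApp {N : PresheafOfModules.{u} (Rx X R)} (φ : M ⟶ N) (W : Cᵒᵖ) :
    DirectSum (W.unop ⟶ X) (fun f => fib M W f) →ₗ[R.obj W]
      DirectSum (W.unop ⟶ X) (fun f => fib N W f) :=
  DFinsupp.mapRange.linearMap (fun f => (φ.app (op (Over.mk f))).hom)

open Classical in
lemma extApp_ins {N : PresheafOfModules.{u} (Rx X R)} (φ : M ⟶ N) (W : Cᵒᵖ) (f : W.unop ⟶ X)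
    (x : fib M W f) : extApp φ W (ins M W f x) = ins N W f (φ.app (op (Over.mk f)) x) := by
  exact DFinsupp.mapRange_single (hf := fun f => map_zero _)

open Classical in
/-- The extension by zero functor on morphisms. -/
noncomputable def extHom {N : PresheafOfModules.{u} (Rx X R)} (φ : M ⟶ N) : extObj M ⟶ extObj N :=
  PresheafOfModules.homMk
    { app := fun W => AddCommGrpCat.ofHom (extApp φ W).toAddMonoidHom
      naturality := fun W V g => by
        apply AddCommGrpCat.hom_ext
        apply DirectSum.addHom_ext
        intro f x
        show extApp φ V (extMap M g (DirectSum.of _ f x)) = extMap N g (extApp φ W (DirectSum.of _ f x))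
        rw [← DirectSum.lof_eq_of (R.obj W)]
        show extApp φ V (extMap M g (ins M W f x)) = extMap N g (extApp φ W (ins M W f x))
        rw [extMap_ins, extApp_ins, extApp_ins, extMap_ins]
        exact congrArg _ (PresheafOfModules.naturality_apply φ
          (Over.homMk g.unop rfl : Over.mk (g.unop ≫ f) ⟶ Over.mk f).op x) }
    fun W r m => (extApp φ W).map_smul r m

variable (X R)

open Classical in
/-- Extension by zero. -/
noncomputable def ext : PresheafOfModules.{u} (Rx X R) ⥤ PresheafOfModules.{u} R where
  obj M := extObj M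
  map φ := extHom φ
  map_id M := by
    ext W z
    induction z using DirectSum.induction_on with
    | zero => exact map_zero _
    | of f x => exact extApp_ins (𝟙 M) W f x
    | add a b ha hb => exact (map_add _ a b).trans ((congrArg₂ (· + ·) ha hb).trans (map_add _ a b).symm)
  map_comp {M N P} φ ψ := by
    ext W z
    induction z using DirectSum.induction_on with
    | zero =>
      show extApp (φ ≫ ψ) W 0 = extApp ψ W (extApp φ W 0)
      simp only [map_zero]
    | of f x =>
      show extApp (φ ≫ ψ) W (ins M W f x) = extApp ψ W (extApp φ W (ins M W f x))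
      rw [extApp_ins, extApp_ins, extApp_ins]
      rfl
    | add a b ha hb => exact (map_add _ a b).trans ((congrArg₂ (· + ·) ha hb).trans (map_add _ a b).symm)

/-- The restriction functor on presheaves of modules. -/
noncomputable abbrev res : PresheafOfModules.{u} R ⥤ PresheafOfModules.{u} (Rx X R) :=
  PresheafOfModules.pushforward.{u} (F := Over.forget X) (𝟙 (Rx X R))

variable {X R}

/-- `M ⟶ res (ext M)`. -/
noncomputable def extUnit (M : PresheafOfModules.{u} (Rx X R)) : M ⟶ (res X R).obj (extObj M) :=
  PresheafOfModules.homMk
    { app := fun U => AddCommGrpCat.ofHom (ins M (op U.unop.left) U.unop.hom).toAddMonoidHom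
      naturality := fun U V h => by
        ext x
        show ins M (op V.unop.left) V.unop.hom (show fib M (op V.unop.left) V.unop.hom from M.map h x) =
          extMap M h.unop.left.op (ins M (op U.unop.left) U.unop.hom x)
        rw [extMap_ins, ins_restr_congr M h.unop.left.op U.unop.hom rfl (b := V.unop.hom) (Over.w h.unop)]
        rfl }
    fun U r m => (ins M (op U.unop.left) U.unop.hom).map_smul r m

open Classical in
/-- The adjoint of a morphism `M ⟶ res N`. -/
noncomputable def extDesc {M : PresheafOfModules.{u} (Rx X R)} {N : PresheafOfModules.{u} R}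
    (ψ : M ⟶ (res X R).obj N) (W : Cᵒᵖ) :
    DirectSum (W.unop ⟶ X) (fun f => fib M W f) →ₗ[R.obj W] N.obj W :=
  DirectSum.toModule (R.obj W) (W.unop ⟶ X) (N.obj W) fun f =>
    { toFun := fun x => ψ.app (op (Over.mk f)) x
      map_add' := fun x y => map_add (ψ.app (op (Over.mk f))).hom x y
      map_smul' := fun r x => (ψ.app (op (Over.mk f))).hom.map_smul r x }

open Classical in
lemma extDesc_ins {M : PresheafOfModules.{u} (Rx X R)} {N : PresheafOfModules.{u} R}
    (ψ : M ⟶ (res X R).obj N) (W : Cᵒᵖ) (f : W.unop ⟶ X) (x : fib M W f) :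
    extDesc ψ W (ins M W f x) = ψ.app (op (Over.mk f)) x :=
  DirectSum.toModule_lof (R := R.obj W) (M := fun f => fib M W f) (ι := W.unop ⟶ X) (N := N.obj W) f x

open Classical in
/-- The adjunction `ext ⊣ res`. -/
noncomputable def adj : ext X R ⊣ res X R :=
  Adjunction.mkOfHomEquiv
    { homEquiv := fun M N =>
        { toFun := fun φ => extUnit M ≫ (res X R).map φ
          invFun := fun ψ => PresheafOfModules.homMk
            { app := fun W => AddCommGrpCat.ofHom (extDesc ψ W).toAddMonoidHom
              naturality := fun W V g => by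
                apply AddCommGrpCat.hom_ext
                apply DirectSum.addHom_ext
                intro f x
                show extDesc ψ V (extMap M g (DirectSum.of _ f x)) =
                  N.map g (extDesc ψ W (DirectSum.of _ f x))
                rw [← DirectSum.lof_eq_of (R.obj W)]
                show extDesc ψ V (extMap M g (ins M W f x)) = N.map g (extDesc ψ W (ins M W f x))
                rw [extMap_ins, extDesc_ins, extDesc_ins]
                exact PresheafOfModules.naturality_apply ψ
                  (Over.homMk g.unop rfl : Over.mk (g.unop ≫ f) ⟶ Over.mk f).op x }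
            fun W r m => (extDesc ψ W).map_smul r m
          left_inv := fun φ => by
            ext W z
            induction z using DirectSum.induction_on with
            | zero => exact (map_zero _).trans (map_zero _).symm
            | of f x => exact extDesc_ins (extUnit M ≫ (res X R).map φ) W f x
            | add a b ha hb =>
              exact (map_add _ a b).trans ((congrArg₂ (· + ·) ha hb).trans (map_add _ a b).symm)
          right_inv := fun ψ => by
            ext U x
            exact extDesc_ins ψ (op U.unop.left) U.unop.hom x }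
      homEquiv_naturality_left_symm := fun {M M' N} φ ψ => by
        ext W z
        induction z using DirectSum.induction_on with
        | zero => exact (map_zero _).trans (map_zero _).symm
        | of f x =>
          show extDesc (φ ≫ ψ) W (ins M W f x) = extDesc ψ W (extApp φ W (ins M W f x))
          rw [extApp_ins, extDesc_ins, extDesc_ins]
          rfl
        | add a b ha hb =>
          exact (map_add _ a b).trans ((congrArg₂ (· + ·) ha hb).trans (map_add _ a b).symm)
      homEquiv_naturality_right := fun φ ψ => by
        show extUnit _ ≫ (res X R).map (φ ≫ ψ) = (extUnit _ ≫ (res X R).map φ) ≫ (res X R).map ψ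
        rw [Functor.map_comp, Category.assoc] }

open Classical in
lemma preservesMono_ext : (ext X R).PreservesMonomorphisms where
  preserves {M N} φ _ := by
    rw [PresheafOfModules.mono_iff_surjective]
    intro W
    exact (DFinsupp.mapRange_injective _ (fun f => map_zero (φ.app (op (Over.mk f))).hom)).2
      fun f => PresheafOfModules.injective_of_mono φ (op (Over.mk f))

lemma preservesFiniteLimits_ext : PreservesFiniteLimits (ext X R) := by
  have := preservesMono_ext (X := X) (R := R)
  have : (ext X R).IsLeftAdjoint := (adj (X := X) (R := R)).isLeftAdjoint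
  have : (res X R).Additive := { map_add := rfl }
  have : (ext X R).Additive := (adj (X := X) (R := R)).left_adjoint_additive
  have : (ext X R).PreservesHomology :=
    (ext X R).preservesHomology_of_preservesMonos_and_cokernels
  exact (ext X R).preservesFiniteLimits_of_preservesHomology

section sheaf

variable {J : GrothendieckTopology C} (A : Sheaf J RingCat.{u})

/-- The left adjoint of the restriction functor. -/
noncomputable def shLeft : SheafOfModules.{u} (A.over X) ⥤ SheafOfModules.{u} A :=
  SheafOfModules.forget.{u} (A.over X) ⋙ ext X A.obj ⋙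
    PresheafOfModules.sheafification (R₀ := A.obj) (𝟙 A.obj)

/-- The adjunction. -/
noncomputable def shAdj : shLeft (X := X) A ⊣ SheafOfModules.overFunctor.{u} A X :=
  ((adj (X := X) (R := A.obj)).comp
      (PresheafOfModules.sheafificationAdjunction (R₀ := A.obj) (𝟙 A.obj))).restrictFullyFaithful
    (SheafOfModules.fullyFaithfulForget (A.over X)) (Functor.FullyFaithful.id _)
    (Iso.refl _) (Iso.refl _)

open Classical in
lemma faithful_shLeft : (shLeft (X := X) A).Faithful where
  map_injective {M N} φ ψ h := by
    have hz := congrArg (fun t => (PresheafOfModules.sheafificationAdjunction (𝟙 A.obj)).homEquiv _ _ t) h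
    simp only [shLeft, Functor.comp_map, Adjunction.homEquiv_unit] at hz
    have h1 := (PresheafOfModules.sheafificationAdjunction (𝟙 A.obj)).unit.naturality
      ((ext X A.obj).map φ.val)
    have h2 := (PresheafOfModules.sheafificationAdjunction (𝟙 A.obj)).unit.naturality
      ((ext X A.obj).map ψ.val)
    have e : (PresheafOfModules.toPresheaf _).map ((ext X A.obj).map φ.val) ≫
        CategoryTheory.toSheafify J _ =
        (PresheafOfModules.toPresheaf _).map ((ext X A.obj).map ψ.val) ≫
        CategoryTheory.toSheafify J _ := by
      have := congrArg (fun t => (PresheafOfModules.toPresheaf A.obj).map t) (h1.trans (hz.trans h2.symm))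
      simp only [Functor.map_comp, Functor.id_map] at this
      rw [PresheafOfModules.toPresheaf_map_sheafificationAdjunction_unit_app] at this
      exact this
    apply SheafOfModules.Hom.ext
    ext U x
    obtain ⟨U⟩ := U
    have hN : Presheaf.IsSheaf (J.over X) N.val.presheaf := N.isSheaf
    have heq : (CategoryTheory.toSheafify J (extObj N.val).presheaf).app (op U.left)
        (ins N.val (op U.left) U.hom (φ.val.app (op U) x)) =
      (CategoryTheory.toSheafify J (extObj N.val).presheaf).app (op U.left)
        (ins N.val (op U.left) U.hom (ψ.val.app (op U) x)) := by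
      have he := ConcreteCategory.congr_hom (NatTrans.congr_app e (op U.left))
        (ins M.val (op U.left) U.hom x)
      have hφ : extApp φ.val (op U.left) (ins M.val (op U.left) U.hom x) =
          ins N.val (op U.left) U.hom (φ.val.app (op U) x) := extApp_ins _ _ _ _
      have hψ : extApp ψ.val (op U.left) (ins M.val (op U.left) U.hom x) =
          ins N.val (op U.left) U.hom (ψ.val.app (op U) x) := extApp_ins _ _ _ _
      rw [← hφ, ← hψ]
      exact he
    have hS := Presheaf.equalizerSieve_mem J (CategoryTheory.toSheafify J (extObj N.val).presheaf)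
      (X := op U.left) _ _ heq
    refine Presheaf.IsSheaf.isSeparated hN U ((Sieve.overEquiv U).symm
      (Presheaf.equalizerSieve (F := (extObj N.val).presheaf) (X := op U.left)
        (ins N.val (op U.left) U.hom (φ.val.app (op U) x))
        (ins N.val (op U.left) U.hom (ψ.val.app (op U) x))))
      (J.overEquiv_symm_mem_over _ _ hS) _ _ fun V g hg => ?_
    have hg' : extMap N.val g.left.op (ins N.val (op U.left) U.hom (φ.val.app (op U) x)) =
        extMap N.val g.left.op (ins N.val (op U.left) U.hom (ψ.val.app (op U) x)) :=
      (Sieve.overEquiv_symm_iff _ g).1 hg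
    rw [extMap_ins, extMap_ins, ins_restr_congr N.val g.left.op U.hom rfl (b := V.hom) (Over.w g),
      ins_restr_congr N.val g.left.op U.hom rfl (b := V.hom) (Over.w g)] at hg'
    exact DirectSum.of_injective (β := fun f => fib N.val (op V.left) f) V.hom hg'

theorem main (J : GrothendieckTopology C) (X : C) (A : Sheaf J RingCat.{u}) :
    (SheafOfModules.overFunctor.{u} A X).IsRightAdjoint ∧
    ∀ (L : SheafOfModules.{u} (A.over X) ⥤ SheafOfModules.{u} A)
      (_ : L ⊣ SheafOfModules.overFunctor.{u} A X),
      PreservesFiniteLimits L ∧ PreservesFiniteColimits L ∧ L.Faithful := by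
  refine ⟨(shAdj (X := X) A).isRightAdjoint, fun L hL => ?_⟩
  let e := (shAdj (X := X) A).leftAdjointUniq hL
  have := preservesFiniteLimits_ext (X := X) (R := A.obj)
  have hsh : PreservesFiniteLimits (PresheafOfModules.sheafification.{u} (R₀ := A.obj) (𝟙 A.obj)) :=
    inferInstance
  have : PreservesFiniteLimits (ext X A.obj ⋙ PresheafOfModules.sheafification (R₀ := A.obj) (𝟙 A.obj)) :=
    comp_preservesFiniteLimits _ _
  have hfg : PreservesFiniteLimits (SheafOfModules.forget.{u} (A.over X)) := inferInstance
  have : PreservesFiniteLimits (shLeft (X := X) A) := by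
    exact @comp_preservesFiniteLimits _ _ _ _ _ _ (SheafOfModules.forget.{u} (A.over X)) _ hfg this
  have : L.IsLeftAdjoint := hL.isLeftAdjoint
  refine ⟨preservesFiniteLimits_of_natIso e, inferInstance, ?_⟩
  have := faithful_shLeft (X := X) A
  exact Functor.Faithful.of_iso e

end sheaf

end Groth.Agent.SGA45.ExtByZero
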