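import Mathlib.CategoryTheory.Sites.LocallyBijective
import Mathlib.CategoryTheory.Sites.Limits
import Mathlib.CategoryTheory.Sites.LeftExact
import Mathlib.CategoryTheory.Limits.Shapes.Diagonal
import Mathlib.CategoryTheory.Limits.Types.Pullbacks
import Mathlib.CategoryTheory.Limits.FunctorCategory.Shapes.Pullbacks

open CategoryTheory CategoryTheory.Limits Opposite

universe u

namespace Groth.Agent.SGA45

variable {C : Type u} [SmallCategory C] (J : GrothendieckTopology C)

lemma isIso_map_iff_W {P Q : Cᵒᵖ ⥤ Type u} (f : P ⟶ Q) :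
    IsIso ((presheafToSheaf J (Type u)).map f) ↔ J.W f :=
  (J.W_iff f).symm

lemma W_iff_bij {P Q : Cᵒᵖ ⥤ Type u} (f : P ⟶ Q) :
    J.W f ↔ Presheaf.IsLocallyInjective J f ∧ Presheaf.IsLocallySurjective J f :=
  J.W_iff_isLocallyBijective f

lemma isInitial_sheafify_iff (P : Cᵒᵖ ⥤ Type u) :
    Nonempty (IsInitial ((presheafToSheaf J (Type u)).obj P)) ↔
      ∀ (U : C) (_ : P.obj (op U)), (⊥ : Sieve U) ∈ J U := by
  constructor
  · rintro ⟨h⟩ U x
    have hbot : IsInitial (⊥ : Subfunctor P).toFunctor :=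
      IsInitial.ofUniqueHom
        (fun Q => { app := fun V => ↾fun (z : (⊥ : Subfunctor P).toFunctor.obj V) => z.2.elim
                    naturality := fun V W g => by ext z; exact z.2.elim })
        (fun Q m => by ext V z; exact z.2.elim)
    have h' : IsInitial ((presheafToSheaf J (Type u)).obj (⊥ : Subfunctor P).toFunctor) :=
      hbot.isInitialObj (presheafToSheaf J (Type u)) _
    have : IsIso ((presheafToSheaf J (Type u)).map (⊥ : Subfunctor P).ι) :=
      ⟨h.to _, h'.hom_ext _ _, h.hom_ext _ _⟩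
    have hs := ((W_iff_bij J _).1 ((isIso_map_iff_W J _).1 this)).2
    refine J.superset_covering ?_ (Presheaf.imageSieve_mem J (⊥ : Subfunctor P).ι x)
    rintro V g ⟨z, -⟩
    exact z.2.elim
  · intro h
    have uniq : ∀ (Z : Sheaf J (Type u)) (U : C) (_ : P.obj (op U)),
        ∃! _ : Z.obj.obj (op U), True := fun Z U x => by
      obtain ⟨t, -, ht⟩ := ((isSheaf_iff_isSheaf_of_type _ _).1 Z.property _ (h U x))
        (fun V g hg => hg.elim) (fun V₁ V₂ W g₁ g₂ f₁ f₂ h₁ => h₁.elim)
      exact ⟨t, trivial, fun t' _ => ht t' (fun V g hg => hg.elim)⟩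
    let e := (sheafificationAdjunction J (Type u)).homEquiv P
    have hto : ∀ Z : Sheaf J (Type u), Nonempty (P ⟶ Z.obj) := fun Z =>
      ⟨{ app := fun U => ↾fun x => (uniq Z U.unop x).choose
         naturality := fun U V g => by
           ext x
           exact (uniq Z V.unop (P.map g x)).unique trivial trivial }⟩
    refine ⟨IsInitial.ofUniqueHom (fun Z => (e Z).symm (hto Z).some) fun Z m => ?_⟩
    apply (e Z).injective
    rw [Equiv.apply_symm_apply]
    ext ⟨U⟩ x
    exact (uniq Z U x).unique trivial trivial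

section cofan

variable {X : C} {ι : Type u} (Y : ι → C) (s : ∀ i, Y i ⟶ X)

/-- The presheaf coproduct of the representables. -/
@[simps]
def sigmaPresheaf : Cᵒᵖ ⥤ Type u where
  obj W := Σ i, (W.unop ⟶ Y i)
  map g := ↾fun p => ⟨p.1, g.unop ≫ p.2⟩
  map_id W := by refine ConcreteCategory.hom_ext _ _ fun p => ?_; exact congrArg (Sigma.mk p.1) (Category.id_comp p.2)
  map_comp f g := by refine ConcreteCategory.hom_ext _ _ fun p => ?_; exact congrArg (Sigma.mk p.1) (Category.assoc g.unop f.unop p.2)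

/-- The map to the representable. -/
def sigmaToYoneda : sigmaPresheaf Y ⟶ yoneda.obj X where
  app W := ↾fun p => p.2 ≫ s p.1
  naturality U V g := by ext p; exact Category.assoc _ _ _

def sigmaCofan : Cofan (fun i => yoneda.obj (Y i)) :=
  Cofan.mk (sigmaPresheaf Y) fun i =>
    { app := fun W => ↾fun a => ⟨i, a⟩
      naturality := fun U V g => rfl }

def isColimitSigmaCofan : IsColimit (sigmaCofan Y) :=
  Cofan.IsColimit.mk _
    (fun t =>
      { app := fun W => ↾fun p => (t.inj p.1).app W p.2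
        naturality := fun U V g => by
          ext p
          exact (t.inj p.1).naturality_apply g p.2 })
    (fun t i => by ext W a; rfl)
    (fun t m hm => by
      ext W p
      exact ConcreteCategory.congr_hom (congr_app (hm p.1) W) p.2)

/-- When the sheafified family is a coproduct. -/
theorem isColimit_cofan_iff :
    Nonempty (IsColimit (Cofan.mk ((presheafToSheaf J (Type u)).obj (yoneda.obj X))
      (fun i => (presheafToSheaf J (Type u)).map (yoneda.map (s i))))) ↔
    (Sieve.ofArrows Y s ∈ J X ∧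
      (∀ (i : ι) (W : C) (a b : W ⟶ Y i), a ≫ s i = b ≫ s i →
        ∃ S ∈ J W, ∀ ⦃V : C⦄ (g : V ⟶ W), S g → g ≫ a = g ≫ b) ∧
      (∀ (i j : ι), i ≠ j → ∀ (W : C) (a : W ⟶ Y i) (b : W ⟶ Y j), a ≫ s i = b ≫ s j →
        (⊥ : Sieve W) ∈ J W)) := by
  let L := presheafToSheaf J (Type u)
  let φ := sigmaToYoneda Y s
  have hc : IsColimit (Cofan.mk (L.obj (sigmaPresheaf Y)) fun i => L.map ((sigmaCofan Y).inj i)) :=
    isColimitCofanMkObjOfIsColimit L (fun i => yoneda.obj (Y i)) (fun i => (sigmaCofan Y).inj i) (isColimitSigmaCofan Y)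
  let c := Cofan.mk (L.obj (yoneda.obj X)) (fun i => L.map (yoneda.map (s i)))
  have hfac : ∀ i, L.map ((sigmaCofan Y).inj i) ≫ L.map φ = L.map (yoneda.map (s i)) := by
    intro i
    rw [← L.map_comp]
    rfl
  have key : Nonempty (IsColimit c) ↔ J.W φ := by
    rw [← isIso_map_iff_W]
    constructor
    · rintro ⟨h⟩
      have e : L.map φ = (hc.coconePointUniqueUpToIso h).hom :=
        hc.hom_ext fun ⟨i⟩ => (hfac i).trans (hc.comp_coconePointUniqueUpToIso_hom h ⟨i⟩).symm
      change IsIso (L.map φ)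
      rw [e]
      infer_instance
    · intro h
      have : IsIso (L.map φ) := h
      exact ⟨IsColimit.ofIsoColimit hc
        (Cocone.ext (asIso (L.map φ)) fun ⟨i⟩ => hfac i)⟩
  refine key.trans ((W_iff_bij J φ).trans ⟨fun ⟨hi, hs⟩ => ⟨?_, ?_, ?_⟩, fun ⟨h₁, h₂, h₃⟩ => ⟨?_, ?_⟩⟩)
  · refine J.superset_covering ?_ (Presheaf.imageSieve_mem J φ (𝟙 X : (yoneda.obj X).obj (op X)))
    rintro V g ⟨⟨i, a⟩, h⟩
    rw [Sieve.mem_ofArrows_iff]
    exact ⟨i, a, ((show a ≫ s i = g ≫ 𝟙 X from h).trans (Category.comp_id g)).symm⟩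
  · intro i W a b e
    refine ⟨_, Presheaf.equalizerSieve_mem J φ (X := op W)
      (⟨i, a⟩ : (sigmaPresheaf Y).obj (op W)) ⟨i, b⟩ e, fun V g hg => ?_⟩
    simpa using (Sigma.mk.inj hg).2
  · intro i j hij W a b e
    refine J.superset_covering ?_ (Presheaf.equalizerSieve_mem J φ (X := op W)
      (⟨i, a⟩ : (sigmaPresheaf Y).obj (op W)) ⟨j, b⟩ e)
    intro V g hg
    exact absurd (Sigma.mk.inj hg).1 hij
  · refine ⟨fun {W} p q e => ?_⟩
    obtain ⟨i, a⟩ := p
    obtain ⟨j, b⟩ := q
    by_cases hij : i = j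
    · subst hij
      obtain ⟨S, hS, hSe⟩ := h₂ i W.unop a b e
      refine J.superset_covering (fun V g hg => ?_) hS
      exact congrArg (Sigma.mk i) (hSe g hg)
    · exact J.superset_covering bot_le (h₃ i j hij W.unop a b e)
  · refine ⟨fun {U} x => ?_⟩
    refine J.superset_covering ?_ (J.pullback_stable (x : U ⟶ X) h₁)
    intro V g hg
    obtain ⟨i, a, e⟩ := (Sieve.mem_ofArrows_iff ..).1 hg
    exact ⟨⟨i, a⟩, e.symm⟩

end cofan

/-- Diagonal of a map of representables becomes an isomorphism iff it is locally monic. -/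
theorem isIso_map_diagonal_iff {X Y : C} (s : Y ⟶ X) :
    IsIso ((presheafToSheaf J (Type u)).map (pullback.diagonal (yoneda.map s))) ↔
      ∀ (W : C) (a b : W ⟶ Y), a ≫ s = b ≫ s →
        ∃ S ∈ J W, ∀ ⦃V : C⦄ (g : V ⟶ W), S g → g ≫ a = g ≫ b := by
  rw [isIso_map_iff_W, W_iff_bij]
  constructor
  · rintro ⟨-, hs⟩ W a b e
    let z : yoneda.obj W ⟶ pullback (yoneda.map s) (yoneda.map s) :=
      pullback.lift (yoneda.map a) (yoneda.map b) (by rw [← Functor.map_comp, e, Functor.map_comp])
    refine ⟨_, Presheaf.imageSieve_mem J (pullback.diagonal (yoneda.map s))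
      (z.app (op W) (𝟙 W)), fun V g ⟨t, ht⟩ => ?_⟩
    rw [← z.naturality_apply] at ht
    have hg : ((yoneda.obj W).map g.op (𝟙 W) : V ⟶ W) = g := Category.comp_id g
    rw [hg] at ht
    have h1 := (ConcreteCategory.congr_hom (congr_app (pullback.diagonal_fst (yoneda.map s)) (op V))
      t).symm.trans ((congrArg ((pullback.fst (yoneda.map s) (yoneda.map s)).app (op V)) ht).trans
      (ConcreteCategory.congr_hom (congr_app (pullback.lift_fst _ _ _ :
        z ≫ pullback.fst (yoneda.map s) (yoneda.map s) = yoneda.map a) (op V)) g))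
    have h2 := (ConcreteCategory.congr_hom (congr_app (pullback.diagonal_snd (yoneda.map s)) (op V))
      t).symm.trans ((congrArg ((pullback.snd (yoneda.map s) (yoneda.map s)).app (op V)) ht).trans
      (ConcreteCategory.congr_hom (congr_app (pullback.lift_snd _ _ _ :
        z ≫ pullback.snd (yoneda.map s) (yoneda.map s) = yoneda.map b) (op V)) g))
    exact h1.symm.trans h2
  · intro h
    refine ⟨Presheaf.isLocallyInjective_of_injective J _ fun U x y e => ?_, ⟨fun {U} z => ?_⟩⟩
    · have := congrArg ((pullback.fst (yoneda.map s) (yoneda.map s)).app U) e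
      simpa only [← ConcreteCategory.comp_apply, ← NatTrans.comp_app, pullback.diagonal_fst,
        NatTrans.id_app, ConcreteCategory.id_apply] using this
    · let a : U ⟶ Y := (pullback.fst (yoneda.map s) (yoneda.map s)).app (op U) z
      let b : U ⟶ Y := (pullback.snd (yoneda.map s) (yoneda.map s)).app (op U) z
      have hab : a ≫ s = b ≫ s :=
        ConcreteCategory.congr_hom (congr_app (pullback.condition (f := yoneda.map s)
          (g := yoneda.map s)) (op U)) z
      obtain ⟨S, hS, hSe⟩ := h U a b hab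
      refine J.superset_covering (fun V g hg => ⟨(g ≫ a : V ⟶ Y), ?_⟩) hS
      refine (Types.ext_of_isPullback
        ((IsPullback.of_hasPullback (yoneda.map s) (yoneda.map s)).map
          ((evaluation _ _).obj (op V)))) ?_ ?_
      · refine ((ConcreteCategory.congr_hom (congr_app (pullback.diagonal_fst (yoneda.map s)) (op V))
          (g ≫ a : V ⟶ Y)).trans ?_)
        exact (NatTrans.naturality_apply (pullback.fst (yoneda.map s) (yoneda.map s)) g.op z).symm
      · refine ((ConcreteCategory.congr_hom (congr_app (pullback.diagonal_snd (yoneda.map s)) (op V))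
          (g ≫ a : V ⟶ Y)).trans ?_)
        exact (hSe g hg).trans
          (NatTrans.naturality_apply (pullback.snd (yoneda.map s) (yoneda.map s)) g.op z).symm

theorem covering_diag_disjoint_iff {X : C} {ι : Type u} (Y : ι → C) (s : ∀ i, Y i ⟶ X) :
    (Sieve.ofArrows Y s ∈ J X ∧
      (∀ i, IsIso ((presheafToSheaf J (Type u)).map (pullback.diagonal (yoneda.map (s i))))) ∧
      (∀ i j, i ≠ j → Nonempty (IsInitial ((presheafToSheaf J (Type u)).obj
        (pullback (yoneda.map (s i)) (yoneda.map (s j))))))) ↔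
    Nonempty (IsColimit (Cofan.mk ((presheafToSheaf J (Type u)).obj (yoneda.obj X))
      (fun i => (presheafToSheaf J (Type u)).map (yoneda.map (s i))))) := by
  rw [isColimit_cofan_iff]
  refine and_congr_right fun _ => and_congr (forall_congr' fun i => isIso_map_diagonal_iff J (s i))
    ⟨fun h i j hij W a b e => ?_, fun h i j hij => (isInitial_sheafify_iff J _).2 fun U z => ?_⟩
  · refine (isInitial_sheafify_iff J _).1 (h i j hij) W
      ((pullback.lift (yoneda.map a) (yoneda.map b)
        (by rw [← Functor.map_comp, e, Functor.map_comp]) :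
          yoneda.obj W ⟶ pullback (yoneda.map (s i)) (yoneda.map (s j))).app (op W) (𝟙 W))
  · exact h i j hij U ((pullback.fst (yoneda.map (s i)) (yoneda.map (s j))).app (op U) z)
      ((pullback.snd (yoneda.map (s i)) (yoneda.map (s j))).app (op U) z)
      (ConcreteCategory.congr_hom (congr_app (pullback.condition (f := yoneda.map (s i))
          (g := yoneda.map (s j))) (op U)) z)

theorem isColimit_cofan_of_disjoint_mono_cover {X : C} {ι : Type u}
    (Y : ι → C) (s : ∀ i, Y i ⟶ X) [∀ (i : ι) (Z : C) (g : Z ⟶ X), HasPullback (s i) g]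
    (hcov : Sieve.ofArrows Y s ∈ J X) (hmono : ∀ i, Mono (s i))
    (hdisj : ∀ i j, i ≠ j → (⊥ : Sieve (pullback (s i) (s j))) ∈ J (pullback (s i) (s j))) :
    Nonempty (IsColimit (Cofan.mk ((presheafToSheaf J (Type u)).obj (yoneda.obj X))
      (fun i => (presheafToSheaf J (Type u)).map (yoneda.map (s i))))) :=
  (isColimit_cofan_iff J Y s).2 ⟨hcov,
    fun i W a b e => ⟨⊤, J.top_mem W, fun V g _ => by rw [(cancel_mono (s i)).1 e]⟩,
    fun i j hij W a b e => by
      refine J.superset_covering ?_ (J.pullback_stable (pullback.lift a b e) (hdisj i j hij))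
      intro V g hg
      exact hg.elim⟩

theorem isColimit_cofan_of_le {J' : GrothendieckTopology C} (hJ : J ≤ J') {X : C} {ι : Type u}
    (Y : ι → C) (s : ∀ i, Y i ⟶ X)
    (h : Nonempty (IsColimit (Cofan.mk ((presheafToSheaf J (Type u)).obj (yoneda.obj X))
      (fun i => (presheafToSheaf J (Type u)).map (yoneda.map (s i)))))) :
    Nonempty (IsColimit (Cofan.mk ((presheafToSheaf J' (Type u)).obj (yoneda.obj X))
      (fun i => (presheafToSheaf J' (Type u)).map (yoneda.map (s i))))) := by
  obtain ⟨h₁, h₂, h₃⟩ := (isColimit_cofan_iff J Y s).1 h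
  exact (isColimit_cofan_iff J' Y s).2 ⟨hJ _ h₁,
    fun i W a b e => let ⟨S, hS, h⟩ := h₂ i W a b e; ⟨S, hJ _ hS, h⟩,
    fun i j hij W a b e => hJ _ (h₃ i j hij W a b e)⟩

theorem isInitial_sheafify_yoneda_iff (X : C) :
    Nonempty (IsInitial ((presheafToSheaf J (Type u)).obj (yoneda.obj X))) ↔ (⊥ : Sieve X) ∈ J X := by
  rw [isInitial_sheafify_iff]
  refine ⟨fun h => h X (𝟙 X), fun h U (x : U ⟶ X) => ?_⟩
  refine J.superset_covering ?_ (J.pullback_stable x h)
  intro V g hg
  exact hg.elim

end Groth.Agent.SGA45
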