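import Groth.Prelude.Def_SGA4a
import Mathlib.CategoryTheory.Sites.LocallyBijective
import Mathlib.CategoryTheory.Sites.LeftExact
import Mathlib.CategoryTheory.Sites.Limits
import Mathlib.CategoryTheory.Limits.Types.Pullbacks
import Mathlib.CategoryTheory.Limits.Types.Products
import Mathlib.CategoryTheory.Limits.FunctorCategory.Basic
import Mathlib.CategoryTheory.Limits.Preserves.Shapes.BinaryProducts
import Mathlib.CategoryTheory.Adjunction.Limits
import Mathlib.CategoryTheory.Comma.Over.Pullback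

set_option autoImplicit false
universe u

open CategoryTheory Limits Opposite

namespace Groth.Agent.SGA45.ClosedCompl

variable {C : Type u} [SmallCategory C] {J : GrothendieckTopology C} (U : Sheaf J (Type u))

lemma prod_sections (X : Sheaf J (Type u)) (W : Cᵒᵖ) (a : U.obj.obj W) (x : X.obj.obj W) :
    ∃! p : (U ⨯ X).obj.obj W, (prod.fst : U ⨯ X ⟶ U).hom.app W p = a ∧
      (prod.snd : U ⨯ X ⟶ X).hom.app W p = x := by
  let G := sheafToPresheaf J (Type u) ⋙ (evaluation Cᵒᵖ (Type u)).obj W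
  let h1 := mapIsLimitOfPreservesOfIsLimit G (prod.fst : U ⨯ X ⟶ U) prod.snd (prodIsProd U X)
  obtain ⟨l, hl1, hl2⟩ := BinaryFan.IsLimit.lift' h1
    (TypeCat.ofHom fun _ : PUnit.{u + 1} => a) (TypeCat.ofHom fun _ : PUnit.{u + 1} => x)
  refine ⟨l PUnit.unit, ⟨ConcreteCategory.congr_hom hl1 PUnit.unit,
    ConcreteCategory.congr_hom hl2 PUnit.unit⟩, ?_⟩
  rintro p ⟨hp1, hp2⟩
  have := BinaryFan.IsLimit.hom_ext h1 (f := (TypeCat.ofHom fun _ : PUnit.{u + 1} => p)) (g := l)
    (by ext; exact hp1.trans (ConcreteCategory.congr_hom hl1 PUnit.unit).symm)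
    (by ext; exact hp2.trans (ConcreteCategory.congr_hom hl2 PUnit.unit).symm)
  exact ConcreteCategory.congr_hom this PUnit.unit

variable (hU : SGA4.IsOpen U)

include hU in
lemma subsingleton_U (W : Cᵒᵖ) : Subsingleton (U.obj.obj W) := by
  have : Mono (terminal.from U) := hU
  let G := sheafToPresheaf J (Type u) ⋙ (evaluation Cᵒᵖ (Type u)).obj W
  have hs : Subsingleton (G.obj (⊤_ _)) :=
    ((Types.isTerminalEquivUnique _) (terminalIsTerminal.isTerminalObj G _)).instSubsingleton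
  exact ⟨fun a b => (mono_iff_injective (G.map (terminal.from U))).1 inferInstance
    (Subsingleton.elim _ _)⟩

lemma closedCompl_iff (X : Sheaf J (Type u)) :
    SGA4.closedCompl U X ↔ ∀ W, U.obj.obj W → Subsingleton (X.obj.obj W) ∧ Nonempty (X.obj.obj W) := by
  have hiff : SGA4.closedCompl U X ↔
      ∀ W, Function.Bijective ((prod.fst : U ⨯ X ⟶ U).hom.app W) := by
    show IsIso (prod.fst : U ⨯ X ⟶ U) ↔ _
    rw [← isIso_iff_of_reflects_iso _ (sheafToPresheaf J (Type u)), NatTrans.isIso_iff_isIso_app]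
    exact forall_congr' fun W => isIso_iff_bijective _
  rw [hiff]
  refine forall_congr' fun W => ⟨fun h a => ?_, fun h => ⟨?_, ?_⟩⟩
  · refine ⟨⟨fun x y => ?_⟩, ?_⟩
    · obtain ⟨p, ⟨hp1, hp2⟩, -⟩ := prod_sections U X W a x
      obtain ⟨q, ⟨hq1, hq2⟩, -⟩ := prod_sections U X W a y
      rw [← hp2, ← hq2, h.1 (hp1.trans hq1.symm)]
    · obtain ⟨p, -⟩ := h.2 a
      exact ⟨(prod.snd : U ⨯ X ⟶ X).hom.app W p⟩
  · intro p q hpq
    have := (h ((prod.fst : U ⨯ X ⟶ U).hom.app W q)).1
    exact (prod_sections U X W _ _).unique ⟨hpq, rfl⟩ ⟨rfl, Subsingleton.elim _ _⟩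
  · intro a
    obtain ⟨x⟩ := (h a).2
    exact ⟨_, (prod_sections U X W a x).exists.choose_spec.1⟩

instance : (SGA4.closedCompl U).IsClosedUnderIsomorphisms where
  of_iso {X Y} e h := by
    show IsIso _
    have : IsIso (prod.fst : U ⨯ X ⟶ U) := h
    rw [show (prod.fst : U ⨯ Y ⟶ U) = prod.map (𝟙 U) e.inv ≫ prod.fst by simp]
    infer_instance

lemma isEmpty_of_hom {W V : Cᵒᵖ} (g : W ⟶ V) (h : IsEmpty (U.obj.obj V)) :
    IsEmpty (U.obj.obj W) := ⟨fun a => h.false (U.obj.map g a)⟩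

/-- The presheaf pushout of `U ⟵ U × X ⟶ X`. -/
def Pc : (Cᵒᵖ ⥤ Type u) ⥤ (Cᵒᵖ ⥤ Type u) where
  obj X :=
    { obj := fun W => IsEmpty (U.obj.obj W) → X.obj W
      map := fun g => TypeCat.ofHom fun f h => X.map g (f (isEmpty_of_hom U g h))
      map_id := fun W => by
        ext f h
        exact ConcreteCategory.congr_hom (X.map_id W) (f h)
      map_comp := fun g g' => by
        ext f h
        exact ConcreteCategory.congr_hom (X.map_comp g g') _ }
  map m := { app := fun W => TypeCat.ofHom fun f h => m.app W (f h)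
             naturality := fun W V g => by
               ext f h
               exact NatTrans.naturality_apply m g _ }

/-- `X ⟶ Pc X`. -/
def ηc : 𝟭 (Cᵒᵖ ⥤ Type u) ⟶ Pc U where
  app X := { app := fun W => TypeCat.ofHom fun x _ => x }

/-- `U ⟶ Pc X`. -/
def inlc (X : Cᵒᵖ ⥤ Type u) : U.obj ⟶ (Pc U).obj X where
  app W := TypeCat.ofHom fun a h => (h.false a).elim
  naturality W V g := by
    ext a
    funext h
    exact (h.false (U.obj.map g a)).elim

/-- The candidate reflector, landing in sheaves. -/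
noncomputable def L₁ : Sheaf J (Type u) ⥤ Sheaf J (Type u) :=
  sheafToPresheaf J (Type u) ⋙ Pc U ⋙ presheafToSheaf J (Type u)

noncomputable def η₁ (X : Sheaf J (Type u)) : X ⟶ (L₁ U).obj X :=
  ⟨(ηc U).app X.obj ≫ toSheafify J _⟩

noncomputable def inl₁ (X : Sheaf J (Type u)) : U ⟶ (L₁ U).obj X :=
  ⟨inlc U X.obj ≫ toSheafify J _⟩

lemma η₁_naturality {X Y : Sheaf J (Type u)} (m : X ⟶ Y) :
    η₁ U X ≫ (L₁ U).map m = m ≫ η₁ U Y := by
  apply ObjectProperty.hom_ext
  show ((ηc U).app X.obj ≫ toSheafify J _) ≫ sheafifyMap J ((Pc U).map m.hom) =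
    m.hom ≫ (ηc U).app Y.obj ≫ toSheafify J _
  rw [Category.assoc, ← toSheafify_naturality, ← Category.assoc]
  rfl

include hU in
open Classical in
lemma exists_desc (X Z : Cᵒᵖ ⥤ Type u) (a : U.obj ⟶ Z) (b : X ⟶ Z)
    (h : ∀ W (p : U.obj.obj W) (x : X.obj W), a.app W p = b.app W x) :
    ∃! c : (Pc U).obj X ⟶ Z, inlc U X ≫ c = a ∧ (ηc U).app X ≫ c = b := by
  have := subsingleton_U U hU
  refine ⟨{ app := fun W => TypeCat.ofHom fun f => if hW : Nonempty (U.obj.obj W) then a.app W hW.some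
                      else b.app W (f (not_nonempty_iff.1 hW))
            naturality := fun W V g => by
              ext f
              show (if hV : Nonempty (U.obj.obj V) then a.app V hV.some
                      else b.app V (((Pc U).obj X).map g f (not_nonempty_iff.1 hV))) =
                Z.map g (if hW : Nonempty (U.obj.obj W) then a.app W hW.some
                      else b.app W (f (not_nonempty_iff.1 hW)))
              by_cases hV : Nonempty (U.obj.obj V) <;> by_cases hW : Nonempty (U.obj.obj W)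
              · rw [dif_pos hV, dif_pos hW, ← NatTrans.naturality_apply]
                exact congrArg _ (Subsingleton.elim _ _)
              · rw [dif_pos hV, dif_neg hW, ← NatTrans.naturality_apply]
                exact h _ _ _
              · exact absurd ⟨U.obj.map g hW.some⟩ hV
              · rw [dif_neg hV, dif_neg hW, ← NatTrans.naturality_apply]
                rfl }, ⟨?_, ?_⟩, ?_⟩
  · ext W p
    show (if hW : Nonempty (U.obj.obj W) then a.app W hW.some else _) = a.app W p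
    rw [dif_pos ⟨p⟩]
    exact congrArg _ (Subsingleton.elim _ _)
  · ext W x
    show (if hW : Nonempty (U.obj.obj W) then a.app W hW.some else b.app W x) = b.app W x
    by_cases hW : Nonempty (U.obj.obj W)
    · rw [dif_pos hW]; exact h _ _ _
    · rw [dif_neg hW]
  · rintro c ⟨h1, h2⟩
    ext W f
    show c.app W f = if hW : Nonempty (U.obj.obj W) then a.app W hW.some
                      else b.app W (f (not_nonempty_iff.1 hW))
    by_cases hW : Nonempty (U.obj.obj W)
    · rw [dif_pos hW, ← ConcreteCategory.congr_hom (NatTrans.congr_app h1 W) hW.some]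
      exact congrArg (c.app W) (funext fun e => (e.false hW.some).elim)
    · rw [dif_neg hW, ← ConcreteCategory.congr_hom (NatTrans.congr_app h2 W) _]
      exact congrArg (c.app W) (funext fun e => rfl)

include hU in
lemma exists_desc₁ (X Z : Sheaf J (Type u)) (a : U ⟶ Z) (b : X ⟶ Z)
    (h : ∀ W (p : U.obj.obj W) (x : X.obj.obj W), a.hom.app W p = b.hom.app W x) :
    ∃! c : (L₁ U).obj X ⟶ Z, inl₁ U X ≫ c = a ∧ η₁ U X ≫ c = b := by
  obtain ⟨c, ⟨hc1, hc2⟩, hu⟩ := exists_desc U hU X.obj Z.obj a.hom b.hom h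
  refine ⟨⟨sheafifyLift J c Z.property⟩, ⟨?_, ?_⟩, ?_⟩
  · apply ObjectProperty.hom_ext
    show (inlc U X.obj ≫ toSheafify J _) ≫ sheafifyLift J c Z.property = _
    rw [Category.assoc, toSheafify_sheafifyLift, hc1]
  · apply ObjectProperty.hom_ext
    show ((ηc U).app X.obj ≫ toSheafify J _) ≫ sheafifyLift J c Z.property = _
    rw [Category.assoc, toSheafify_sheafifyLift, hc2]
  · rintro d ⟨hd1, hd2⟩
    apply ObjectProperty.hom_ext
    apply sheafifyLift_unique
    refine hu (toSheafify J _ ≫ d.hom) ⟨?_, ?_⟩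
    · rw [← Category.assoc]; exact congrArg (fun t : U ⟶ Z => t.hom) hd1
    · rw [← Category.assoc]; exact congrArg (fun t : X ⟶ Z => t.hom) hd2

include hU in
lemma closed_L₁ (X : Sheaf J (Type u)) : SGA4.closedCompl U ((L₁ U).obj X) := by
  rw [closedCompl_iff]
  intro W a
  refine ⟨⟨fun s t => ?_⟩, ⟨(inl₁ U X).hom.app W a⟩⟩
  have key : ∀ s : ((L₁ U).obj X).obj.obj W, s = (inl₁ U X).hom.app W a := by
    intro s
    apply ((isSheaf_iff_isSheaf_of_type _ _).1 ((L₁ U).obj X).property _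
      (Presheaf.imageSieve_mem J (toSheafify J ((Pc U).obj X.obj)) s)).isSeparatedFor.ext
    rintro V g ⟨f, hf⟩
    refine hf.symm.trans ?_
    refine Eq.trans ?_ (NatTrans.naturality_apply (inl₁ U X).hom g.op a)
    exact congrArg (fun t : ((Pc U).obj X.obj).obj (op V) =>
        (toSheafify J ((Pc U).obj X.obj)).app (op V) t)
      (funext fun h => (h.false (U.obj.map g.op a)).elim)
  rw [key s, key t]

include hU in
lemma isIso_η₁ (X : Sheaf J (Type u)) (hX : SGA4.closedCompl U X) : IsIso (η₁ U X) := by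
  rw [closedCompl_iff] at hX
  have : IsIso ((ηc U).app X.obj) := by
    rw [NatTrans.isIso_iff_isIso_app]
    intro W
    rw [isIso_iff_bijective]
    constructor
    · intro x y e
      by_cases hW : Nonempty (U.obj.obj W)
      · exact (hX W hW.some).1.elim _ _
      · exact congrFun e (not_nonempty_iff.1 hW)
    · intro f
      by_cases hW : Nonempty (U.obj.obj W)
      · obtain ⟨x⟩ := (hX W hW.some).2
        exact ⟨x, funext fun h => (h.false hW.some).elim⟩
      · exact ⟨f (not_nonempty_iff.1 hW), funext fun h => rfl⟩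
  have h2 : Presheaf.IsSheaf J ((Pc U).obj X.obj) :=
    Presheaf.isSheaf_of_iso_iff (asIso ((ηc U).app X.obj)) |>.1 X.property
  have : IsIso (toSheafify J ((Pc U).obj X.obj)) := isIso_toSheafify J h2
  have : IsIso ((sheafToPresheaf J (Type u)).map (η₁ U X)) :=
    inferInstanceAs (IsIso ((ηc U).app X.obj ≫ toSheafify J _))
  exact isIso_of_reflects_iso _ (sheafToPresheaf J (Type u))

include hU in
lemma precomp_η₁ (X Z : Sheaf J (Type u)) (hZ : SGA4.closedCompl U Z) :
    Function.Bijective (fun c : (L₁ U).obj X ⟶ Z => η₁ U X ≫ c) := by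
  have hZ' : IsIso (prod.fst : U ⨯ Z ⟶ U) := hZ
  let a : U ⟶ Z := inv (prod.fst : U ⨯ Z ⟶ U) ≫ prod.snd
  rw [Function.bijective_iff_existsUnique]
  intro b
  have hh : ∀ W (p : U.obj.obj W) (x : X.obj.obj W), a.hom.app W p = b.hom.app W x :=
    fun W p x => ((closedCompl_iff U Z).1 hZ W p).1.elim _ _
  obtain ⟨c, ⟨-, hc⟩, hu⟩ := exists_desc₁ U hU X Z a b hh
  refine ⟨c, hc, fun d hd => hu d ⟨?_, hd⟩⟩
  apply ObjectProperty.hom_ext
  ext W p
  exact ((closedCompl_iff U Z).1 hZ W p).1.elim _ _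

include hU in
/-- The reflector. -/
noncomputable def L₀ : Sheaf J (Type u) ⥤ (SGA4.closedCompl U).FullSubcategory :=
  (SGA4.closedCompl U).lift (L₁ U) (closed_L₁ U hU)

/-- The hom equivalence. -/
noncomputable def homEquiv₀ (X : Sheaf J (Type u)) (Z : (SGA4.closedCompl U).FullSubcategory) :
    ((L₀ U hU).obj X ⟶ Z) ≃ (X ⟶ Z.obj) :=
  ((SGA4.closedCompl U).fullyFaithfulι.homEquiv (X := (L₀ U hU).obj X) (Y := Z)).trans
    (Equiv.ofBijective (fun c : (L₁ U).obj X ⟶ Z.obj => η₁ U X ≫ c) (precomp_η₁ U hU X Z.obj Z.property))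

lemma homEquiv₀_apply (X : Sheaf J (Type u)) (Z : (SGA4.closedCompl U).FullSubcategory)
    (f : (L₀ U hU).obj X ⟶ Z) : homEquiv₀ U hU X Z f = η₁ U X ≫ (SGA4.closedCompl U).ι.map f :=
  rfl

/-- The adjunction. -/
noncomputable def adj₀ : L₀ U hU ⊣ (SGA4.closedCompl U).ι :=
  Adjunction.mkOfHomEquiv
    { homEquiv := fun X Z => homEquiv₀ U hU X Z
      homEquiv_naturality_left_symm := fun {X X' Z} f g => by
        apply (homEquiv₀ U hU X Z).injective
        rw [Equiv.apply_symm_apply, homEquiv₀_apply]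
        show f ≫ g = η₁ U X ≫ (L₁ U).map f ≫ _
        rw [← Category.assoc, η₁_naturality, Category.assoc]
        congr 1
        exact ((homEquiv₀_apply U hU X' Z _).symm.trans (Equiv.apply_symm_apply _ g)).symm
      homEquiv_naturality_right := fun {X Z Z'} f g => by
        rw [homEquiv₀_apply, homEquiv₀_apply]
        exact (Category.assoc _ _ _).symm }

lemma adj₀_unit (X : Sheaf J (Type u)) :
    (adj₀ U hU).unit.app X = (show X ⟶ (SGA4.closedCompl U).ι.obj ((L₀ U hU).obj X) from η₁ U X) := by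
  rw [← Adjunction.homEquiv_id]
  unfold adj₀
  rw [Adjunction.mkOfHomEquiv_homEquiv, homEquiv₀_apply]
  exact Category.comp_id _

noncomputable def evalPcIso (W : Cᵒᵖ) : Pc U ⋙ (evaluation Cᵒᵖ (Type u)).obj W ≅
    (evaluation Cᵒᵖ (Type u)).obj W ⋙ coyoneda.obj (op (ULift.{u} (PLift (IsEmpty (U.obj.obj W))))) :=
  NatIso.ofComponents fun X =>
    { hom := TypeCat.ofHom fun f => TypeCat.ofHom fun h => f h.down.down
      inv := TypeCat.ofHom fun (f : ULift.{u} (PLift (IsEmpty (U.obj.obj W))) ⟶ X.obj W) h => f ⟨⟨h⟩⟩ }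

lemma preservesFiniteLimits_L₁ : PreservesFiniteLimits (L₁ U) := by
  have : PreservesFiniteLimits (Pc U) := ⟨fun K _ _ => by
    refine preservesLimitsOfShape_of_evaluation (Pc U) K fun W => ?_
    have h := preservesLimitsOfShape_of_natIso (J := K) (evalPcIso U W).symm
    exact h⟩
  have : PreservesFiniteLimits (Pc U ⋙ presheafToSheaf J (Type u)) := comp_preservesFiniteLimits _ _
  exact comp_preservesFiniteLimits _ _

lemma preservesFiniteLimits_L₀ : PreservesFiniteLimits (L₀ U hU) := by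
  have := preservesFiniteLimits_L₁ U
  have : PreservesFiniteLimits (L₀ U hU ⋙ (SGA4.closedCompl U).ι) := this
  exact ⟨fun K _ _ => preservesLimitsOfShape_of_reflects_of_preserves (L₀ U hU) (SGA4.closedCompl U).ι⟩

lemma preservesFiniteLimits_of_adj (L : Sheaf J (Type u) ⥤ (SGA4.closedCompl U).FullSubcategory)
    (adj : L ⊣ (SGA4.closedCompl U).ι) (hU : SGA4.IsOpen U) : PreservesFiniteLimits L := by
  have := preservesFiniteLimits_L₀ U hU
  exact preservesFiniteLimits_of_natIso ((adj₀ U hU).leftAdjointUniq adj)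

include hU in
lemma isPushout (X : Sheaf J (Type u)) :
    IsPushout (prod.fst : U ⨯ X ⟶ U) (prod.snd : U ⨯ X ⟶ X) (inl₁ U X) (η₁ U X) := by
  have := subsingleton_U U hU
  have hw : (prod.fst : U ⨯ X ⟶ U) ≫ inl₁ U X = prod.snd ≫ η₁ U X := by
    apply ObjectProperty.hom_ext
    ext W p
    refine congrArg (fun t : ((Pc U).obj X.obj).obj W =>
      (toSheafify J ((Pc U).obj X.obj)).app W t) (funext fun h => ?_)
    exact (h.false ((prod.fst : U ⨯ X ⟶ U).hom.app W p)).elim
  have key : ∀ s : PushoutCocone (prod.fst : U ⨯ X ⟶ U) (prod.snd : U ⨯ X ⟶ X),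
      ∃! c : (L₁ U).obj X ⟶ s.pt, inl₁ U X ≫ c = s.inl ∧ η₁ U X ≫ c = s.inr := fun s =>
    exists_desc₁ U hU X s.pt s.inl s.inr fun W p x => by
      obtain ⟨q, ⟨hq1, hq2⟩, -⟩ := prod_sections U X W p x
      rw [← hq1, ← hq2]
      exact ConcreteCategory.congr_hom (NatTrans.congr_app
        (congrArg (fun t : U ⨯ X ⟶ s.pt => t.hom) s.condition) W) q
  exact IsPushout.of_isColimit' ⟨hw⟩ (PushoutCocone.IsColimit.mk _ (fun s => (key s).choose)
    (fun s => (key s).choose_spec.1.1) (fun s => (key s).choose_spec.1.2)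
    (fun s m h1 h2 => (key s).choose_spec.2 m ⟨h1, h2⟩))

include hU in
theorem S3083_main :
    ∃ (L : Sheaf J (Type u) ⥤ (SGA4.closedCompl U).FullSubcategory)
      (_ : L ⊣ (SGA4.closedCompl U).ι),
      PreservesFiniteLimits L ∧
      ∀ X : Sheaf J (Type u), Nonempty (((SGA4.closedCompl U).ι).obj (L.obj X) ≅
        pushout (prod.fst : U ⨯ X ⟶ U) (prod.snd : U ⨯ X ⟶ X)) :=
  ⟨L₀ U hU, adj₀ U hU, preservesFiniteLimits_L₀ U hU, fun X => ⟨(isPushout U hU X).isoPushout⟩⟩

include hU in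
theorem S6177_main (X : Sheaf J (Type u)) :
    (SGA4.closedCompl U X ↔
      IsIso (pushout.inr (prod.fst : U ⨯ X ⟶ U) (prod.snd : U ⨯ X ⟶ X))) ∧
    ((∃ Y : Sheaf J (Type u),
        Nonempty (X ≅ pushout (prod.fst : U ⨯ Y ⟶ U) (prod.snd : U ⨯ Y ⟶ Y))) →
      SGA4.closedCompl U X) := by
  have h2 : ∀ Y, SGA4.closedCompl U (pushout (prod.fst : U ⨯ Y ⟶ U) (prod.snd : U ⨯ Y ⟶ Y)) :=
    fun Y => (SGA4.closedCompl U).prop_of_iso (isPushout U hU Y).isoPushout (closed_L₁ U hU Y)
  refine ⟨⟨fun hX => ?_, fun _ => ?_⟩, ?_⟩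
  · have := isIso_η₁ U hU X hX
    rw [← (isPushout U hU X).inr_isoPushout_hom]
    infer_instance
  · exact (SGA4.closedCompl U).prop_of_iso (asIso (pushout.inr _ _)).symm (h2 X)
  · rintro ⟨Y, ⟨e⟩⟩
    exact (SGA4.closedCompl U).prop_of_iso e.symm (h2 Y)

/-- `m` is bijective on sections over `U`. -/
def BijOver {X Y : Sheaf J (Type u)} (m : X ⟶ Y) : Prop :=
  ∀ W, U.obj.obj W → Function.Bijective (m.hom.app W)

lemma isIso_prodMap_iff {X Y : Sheaf J (Type u)} (m : X ⟶ Y) :
    IsIso (prod.map (𝟙 U) m) ↔ BijOver U m := by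
  have hiff : IsIso (prod.map (𝟙 U) m) ↔
      ∀ W, Function.Bijective ((prod.map (𝟙 U) m).hom.app W) := by
    rw [← isIso_iff_of_reflects_iso _ (sheafToPresheaf J (Type u)), NatTrans.isIso_iff_isIso_app]
    exact forall_congr' fun W => isIso_iff_bijective _
  have hfst : ∀ W p, (prod.fst : U ⨯ Y ⟶ U).hom.app W ((prod.map (𝟙 U) m).hom.app W p) =
      (prod.fst : U ⨯ X ⟶ U).hom.app W p := fun W p =>
    ConcreteCategory.congr_hom (NatTrans.congr_app (congrArg (fun t : U ⨯ X ⟶ U => t.hom)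
      ((prod.map_fst (𝟙 U) m).trans (Category.comp_id _))) W) p
  have hsnd : ∀ W p, (prod.snd : U ⨯ Y ⟶ Y).hom.app W ((prod.map (𝟙 U) m).hom.app W p) =
      m.hom.app W ((prod.snd : U ⨯ X ⟶ X).hom.app W p) := fun W p =>
    ConcreteCategory.congr_hom (NatTrans.congr_app (congrArg (fun t : U ⨯ X ⟶ Y => t.hom)
      (prod.map_snd (𝟙 U) m)) W) p
  rw [hiff]
  constructor
  · intro h W a
    constructor
    · intro x y e
      obtain ⟨p, ⟨hp1, hp2⟩, -⟩ := prod_sections U X W a x
      obtain ⟨q, ⟨hq1, hq2⟩, -⟩ := prod_sections U X W a y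
      rw [← hp2, ← hq2]
      refine congrArg _ ((h W).1 ((prod_sections U Y W a (m.hom.app W y)).unique ⟨?_, ?_⟩ ⟨?_, ?_⟩))
      · rw [hfst, hp1]
      · rw [hsnd, hp2, e]
      · rw [hfst, hq1]
      · rw [hsnd, hq2]
    · intro y
      obtain ⟨q, ⟨-, hq2⟩, -⟩ := prod_sections U Y W a y
      obtain ⟨p, rfl⟩ := (h W).2 q
      exact ⟨_, (hsnd W p).symm.trans hq2⟩
  · intro h W
    constructor
    · intro p q e
      have e1 := congrArg ((prod.fst : U ⨯ Y ⟶ U).hom.app W) e
      have e2 := congrArg ((prod.snd : U ⨯ Y ⟶ Y).hom.app W) e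
      rw [hfst, hfst] at e1
      rw [hsnd, hsnd] at e2
      exact (prod_sections U X W _ _).unique ⟨e1, (h W ((prod.fst : U ⨯ X ⟶ U).hom.app W q)).1 e2⟩
        ⟨rfl, rfl⟩
    · intro q
      let a := (prod.fst : U ⨯ Y ⟶ U).hom.app W q
      obtain ⟨x, hx⟩ := (h W a).2 ((prod.snd : U ⨯ Y ⟶ Y).hom.app W q)
      obtain ⟨p, ⟨hp1, hp2⟩, -⟩ := prod_sections U X W a x
      refine ⟨p, (prod_sections U Y W a _).unique ⟨?_, ?_⟩ ⟨rfl, hx.symm⟩⟩
      · rw [hfst, hp1]
      · rw [hsnd, hp2]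

lemma isIso_star_map_iff {X Y : Sheaf J (Type u)} (m : X ⟶ Y) :
    IsIso ((Over.star U).map m) ↔ BijOver U m := by
  rw [← isIso_iff_of_reflects_iso _ (Over.forget U), ← isIso_prodMap_iff U m]
  simp only [Over.forget_map, Over.star_map_left]
  rfl

lemma isIso_of_bijOver {X Y : Sheaf J (Type u)} (m : X ⟶ Y) (h1 : BijOver U m)
    (h2 : IsIso ((L₁ U).map m)) : IsIso m := by
  have h3 : J.W ((Pc U).map m.hom) := (J.W_iff _).2 h2
  rw [GrothendieckTopology.W_iff_isLocallyBijective] at h3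
  obtain ⟨hi, hs⟩ := h3
  have hW : J.W m.hom := by
    rw [GrothendieckTopology.W_iff_isLocallyBijective]
    constructor
    · refine ⟨fun {W} x y e => ?_⟩
      refine J.superset_covering ?_ (Presheaf.equalizerSieve_mem J ((Pc U).map m.hom)
        ((ηc U).app X.obj |>.app W x) ((ηc U).app X.obj |>.app W y) ?_)
      · intro V g hg
        show X.obj.map g.op x = X.obj.map g.op y
        by_cases hV : Nonempty (U.obj.obj (op V))
        · apply (h1 _ hV.some).1
          rw [NatTrans.naturality_apply, NatTrans.naturality_apply, e]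
        · exact congrFun hg (not_nonempty_iff.1 hV)
      · funext h
        exact e
    · refine ⟨fun {W} y => ?_⟩
      refine J.superset_covering ?_ (Presheaf.imageSieve_mem J ((Pc U).map m.hom)
        ((ηc U).app Y.obj |>.app (op W) y))
      rintro V g ⟨f, hf⟩
      by_cases hV : Nonempty (U.obj.obj (op V))
      · exact (h1 _ hV.some).2 _
      · exact ⟨f (not_nonempty_iff.1 hV), congrFun hf (not_nonempty_iff.1 hV)⟩
  have := (J.W_sheafToPresheaf_map_iff_isIso m).1 hW
  exact this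

include hU in
theorem S3084_main (L : Sheaf J (Type u) ⥤ (SGA4.closedCompl U).FullSubcategory)
    (adj : L ⊣ (SGA4.closedCompl U).ι) {X Y : Sheaf J (Type u)} (m : X ⟶ Y) :
    IsIso m ↔ IsIso ((Over.star U).map m) ∧ IsIso (L.map m) := by
  refine ⟨fun _ => ⟨inferInstance, inferInstance⟩, fun ⟨h1, h2⟩ => ?_⟩
  have : IsIso ((L₀ U hU).map m) :=
    (NatIso.isIso_map_iff ((adj₀ U hU).leftAdjointUniq adj) m).2 h2
  exact isIso_of_bijOver U m ((isIso_star_map_iff U m).1 h1)
    (inferInstanceAs (IsIso ((SGA4.closedCompl U).ι.map ((L₀ U hU).map m))))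

include hU in
theorem S12107_main {X X' : Sheaf J (Type u)} (m : X ⟶ X')
    (k : pushout (prod.fst : U ⨯ X ⟶ U) (prod.snd : U ⨯ X ⟶ X) ⟶
      pushout (prod.fst : U ⨯ X' ⟶ U) (prod.snd : U ⨯ X' ⟶ X'))
    (hk₂ : pushout.inr (prod.fst : U ⨯ X ⟶ U) (prod.snd : U ⨯ X ⟶ X) ≫ k =
      m ≫ pushout.inr (prod.fst : U ⨯ X' ⟶ U) (prod.snd : U ⨯ X' ⟶ X')) :
    IsPullback m (pushout.inr (prod.fst : U ⨯ X ⟶ U) (prod.snd : U ⨯ X ⟶ X))
        (pushout.inr (prod.fst : U ⨯ X' ⟶ U) (prod.snd : U ⨯ X' ⟶ X')) k ↔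
      IsIso (prod.map (𝟙 U) m) := by
  let p := (isPushout U hU X).isoPushout
  let p' := (isPushout U hU X').isoPushout
  have hk : k = p.inv ≫ (L₁ U).map m ≫ p'.hom := by
    rw [← cancel_epi p.hom, Iso.hom_inv_id_assoc]
    apply (precomp_η₁ U hU X _ ((SGA4.closedCompl U).prop_of_iso p' (closed_L₁ U hU X'))).1
    show η₁ U X ≫ p.hom ≫ k = η₁ U X ≫ (L₁ U).map m ≫ p'.hom
    rw [← Category.assoc, (isPushout U hU X).inr_isoPushout_hom, hk₂, ← Category.assoc,
      η₁_naturality, Category.assoc, (isPushout U hU X').inr_isoPushout_hom]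
  have hcomm : m ≫ η₁ U X' = η₁ U X ≫ (L₁ U).map m := (η₁_naturality U m).symm
  have hiff : IsPullback m (pushout.inr (prod.fst : U ⨯ X ⟶ U) (prod.snd : U ⨯ X ⟶ X))
      (pushout.inr (prod.fst : U ⨯ X' ⟶ U) (prod.snd : U ⨯ X' ⟶ X')) k ↔
      IsPullback m (η₁ U X) (η₁ U X') ((L₁ U).map m) := by
    constructor <;> intro h
    · refine h.of_iso (Iso.refl _) (Iso.refl _) p.symm p'.symm (by simp) ?_ ?_ ?_
      · exact (Iso.eq_comp_inv p).2 ((isPushout U hU X).inr_isoPushout_hom) |>.symm.trans (Category.id_comp _).symm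
      · exact (Iso.eq_comp_inv p').2 ((isPushout U hU X').inr_isoPushout_hom) |>.symm.trans (Category.id_comp _).symm
      · simp [hk, p, p']
    · refine h.of_iso (Iso.refl _) (Iso.refl _) p p' (by simp) ?_ ?_ ?_
      · simp [p, (isPushout U hU X).inr_isoPushout_hom]
      · simp [p', (isPushout U hU X').inr_isoPushout_hom]
      · simp [hk, p, p']
  rw [hiff, isIso_prodMap_iff]
  constructor
  · intro h W a
    have hp := h.map (sheafToPresheaf J (Type u) ⋙ (evaluation Cᵒᵖ (Type u)).obj W)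
    obtain ⟨hs, -⟩ := (closedCompl_iff U _).1 (closed_L₁ U hU X) W a
    obtain ⟨hs', -⟩ := (closedCompl_iff U _).1 (closed_L₁ U hU X') W a
    constructor
    · intro x y e
      exact Types.ext_of_isPullback hp e (hs.elim _ _)
    · intro y
      obtain ⟨s⟩ := ((closedCompl_iff U _).1 (closed_L₁ U hU X) W a).2
      obtain ⟨x, hx, -⟩ := Types.exists_of_isPullback hp y s (hs'.elim _ _)
      exact ⟨x, hx⟩
  · intro h
    let c := pullback.lift (f := η₁ U X') (g := (L₁ U).map m) m (η₁ U X) hcomm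
    suffices IsIso c by
      exact IsPullback.of_iso_pullback ⟨hcomm⟩ (asIso c) (pullback.lift_fst _ _ _)
        (pullback.lift_snd _ _ _)
    apply isIso_of_bijOver U c
    · intro W a
      have hp := (IsPullback.of_hasPullback (η₁ U X') ((L₁ U).map m)).map
        (sheafToPresheaf J (Type u) ⋙ (evaluation Cᵒᵖ (Type u)).obj W)
      obtain ⟨hs, -⟩ := (closedCompl_iff U _).1 (closed_L₁ U hU X) W a
      have hfst : ∀ x, (pullback.fst (η₁ U X') ((L₁ U).map m)).hom.app W (c.hom.app W x) =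
          m.hom.app W x := fun x =>
        ConcreteCategory.congr_hom (NatTrans.congr_app (congrArg (fun t : X ⟶ X' => t.hom)
          (pullback.lift_fst _ _ hcomm)) W) x
      constructor
      · intro x y e
        apply (h W a).1
        rw [← hfst, ← hfst, e]
      · intro z
        obtain ⟨x, hx⟩ := (h W a).2 ((pullback.fst (η₁ U X') ((L₁ U).map m)).hom.app W z)
        exact ⟨x, Types.ext_of_isPullback hp ((hfst x).trans hx) (hs.elim _ _)⟩
    · have := preservesFiniteLimits_L₁ U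
      have hη : ∀ Y, IsIso ((L₁ U).map (η₁ U Y)) := fun Y => by
        let adj := adj₀ U hU
        have e : adj.unit.app Y = η₁ U Y := adj₀_unit U hU Y
        have : IsIso ((L₀ U hU).map (adj.unit.app Y)) := inferInstance
        rw [e] at this
        exact @Functor.map_isIso _ _ _ _ _ _ (SGA4.closedCompl U).ι _ this
      have hp := (IsPullback.of_hasPullback (η₁ U X') ((L₁ U).map m)).map (L₁ U)
      have := hη X'
      have := hη X
      have hsnd : IsIso ((L₁ U).map (pullback.snd (η₁ U X') ((L₁ U).map m))) :=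
        hp.isIso_snd_of_isIso
      have e : (L₁ U).map c ≫ (L₁ U).map (pullback.snd (η₁ U X') ((L₁ U).map m)) =
          (L₁ U).map (η₁ U X) := by
        rw [← Functor.map_comp, pullback.lift_snd]
      exact IsIso.of_isIso_fac_right e

end Groth.Agent.SGA45.ClosedCompl
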