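import Mathlib.CategoryTheory.Generator.Basic
import Mathlib.CategoryTheory.Limits.Shapes.Diagonal
import Mathlib.CategoryTheory.Sites.LocallyBijective
import Mathlib.CategoryTheory.Sites.LeftExact
import Mathlib.CategoryTheory.Sites.Limits
import Mathlib.CategoryTheory.Sites.CoverLifting
import Mathlib.CategoryTheory.Sites.Pullback
import Mathlib.CategoryTheory.Sites.Subcanonical
import Mathlib.CategoryTheory.Functor.KanExtension.Adjunction
import Mathlib.CategoryTheory.Adjunction.Triple
import Mathlib.CategoryTheory.Limits.Indization.IndObject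
import Mathlib.CategoryTheory.Limits.Shapes.Terminal
import Mathlib.CategoryTheory.Limits.Preserves.Basic
import Mathlib.CategoryTheory.Comma.Over.Basic
import Mathlib.CategoryTheory.Limits.Yoneda
import Mathlib.CategoryTheory.Sites.Point.Over
import Mathlib.CategoryTheory.Sites.Point.Map
import Mathlib.CategoryTheory.Sites.CoversTop.Basic
import Groth.Prelude.Def_SGA4a

open CategoryTheory CategoryTheory.Limits Opposite

universe w v u

namespace Groth.Agent.SGA45

section sites

variable {C : Type u} [SmallCategory C] {C' : Type u} [SmallCategory C']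

theorem isCocontinuous_of_ran_isSheaf (J : GrothendieckTopology C) (J' : GrothendieckTopology C')
    (F : C ⥤ C') (h : ∀ G : Sheaf J (Type u), Presheaf.IsSheaf J' ((F.op.ran).obj G.obj)) :
    F.IsCocontinuous J J' := by
  refine ⟨fun {U} S hS => ?_⟩
  let adj := F.op.ranAdjunction (Type u)
  have hW' : J'.W S.functorInclusion := by
    refine (J'.W_iff_isLocallyBijective _).2
      ⟨Presheaf.isLocallyInjective_of_injective J' _ fun W x y e => Subtype.ext e, ⟨fun {W} f => ?_⟩⟩
    refine J'.superset_covering ?_ (J'.pullback_stable (f : W ⟶ F.obj U) hS)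
    intro V g hg
    exact ⟨(⟨g ≫ (f : W ⟶ F.obj U), hg⟩ : S.functor.obj (op V)), rfl⟩
  let m := ((Functor.whiskeringLeft Cᵒᵖ C'ᵒᵖ (Type u)).obj F.op).map S.functorInclusion
  have hm : J.W m := fun G hG => by
    have hb := hW' _ (h ⟨G, hG⟩)
    have : (fun g => m ≫ g) = fun g =>
        (adj.homEquiv _ G).symm (S.functorInclusion ≫ adj.homEquiv _ G g) := by
      funext g
      rw [Adjunction.homEquiv_naturality_left_symm, Equiv.symm_apply_apply]
    rw [this]
    exact (adj.homEquiv _ G).symm.bijective.comp (hb.comp (adj.homEquiv _ G).bijective)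
  have hs := ((J.W_iff_isLocallyBijective _).1 hm).2
  refine J.superset_covering ?_ (Presheaf.imageSieve_mem J m
    (𝟙 (F.obj U) : ((Functor.whiskeringLeft Cᵒᵖ C'ᵒᵖ (Type u)).obj F.op |>.obj
      (yoneda.obj (F.obj U))).obj (op U)))
  rintro V g ⟨⟨t, ht⟩, e⟩
  have e' : t = F.map g ≫ 𝟙 (F.obj U) := e
  rw [Category.comp_id] at e'
  rw [e'] at ht
  exact ht

theorem sheafified_generators_isDetecting (J : GrothendieckTopology C) (G : Set C)
    (hG : ∀ X : C, ∃ (ι : Type u) (Y : ι → C) (f : ∀ i, Y i ⟶ X),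
      Sieve.ofArrows Y f ∈ J X ∧ ∀ i, Y i ∈ G) :
    (ObjectProperty.ofObj fun X : G =>
      (presheafToSheaf J (Type u)).obj (yoneda.obj (X : C))).IsDetecting := by
  intro A B f hf
  let e : ∀ (Z : C) (F : Sheaf J (Type u)),
      ((presheafToSheaf J (Type u)).obj (yoneda.obj Z) ⟶ F) ≃ F.obj.obj (op Z) := fun Z F =>
    ((sheafificationAdjunction J (Type u)).homEquiv _ F).trans yonedaEquiv
  have he : ∀ (Z : C) (h : (presheafToSheaf J (Type u)).obj (yoneda.obj Z) ⟶ A),
      e Z B (h ≫ f) = f.hom.app (op Z) (e Z A h) := fun Z h => by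
    simp only [e, Equiv.trans_apply]
    rw [Adjunction.homEquiv_naturality_right, yonedaEquiv_comp]
    rfl
  have bij : ∀ Z ∈ G, Function.Bijective (f.hom.app (op Z)) := by
    intro Z hZ
    refine Function.bijective_iff_existsUnique _ |>.2 fun b => ?_
    obtain ⟨h', hh, hu⟩ := hf _ ⟨(⟨Z, hZ⟩ : G)⟩ ((e Z B).symm b)
    refine ⟨e Z A h', ?_, fun y hy => ?_⟩
    · change f.hom.app (op Z) (e Z A h') = b
      rw [← he, hh, Equiv.apply_symm_apply]
    · have := hu ((e Z A).symm y) (by
        apply (e Z B).injective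
        rw [he, Equiv.apply_symm_apply, Equiv.apply_symm_apply]
        exact hy)
      rw [← this, Equiv.apply_symm_apply]
  rw [← J.W_sheafToPresheaf_map_iff_isIso, J.W_iff_isLocallyBijective]
  refine ⟨⟨fun {X} x y hxy => ?_⟩, ⟨fun {X} b => ?_⟩⟩
  · obtain ⟨ι, Yf, g, hg, hY⟩ := hG X.unop
    refine J.superset_covering ?_ hg
    rw [Sieve.ofArrows, Sieve.generate_le_iff]
    rintro _ _ ⟨i⟩
    refine (bij (Yf i) (hY i)).1 ?_
    exact ((NatTrans.naturality_apply f.hom (g i).op x).trans (congrArg _ hxy)).trans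
      (NatTrans.naturality_apply f.hom (g i).op y).symm
  · obtain ⟨ι, Yf, g, hg, hY⟩ := hG X
    refine J.superset_covering ?_ hg
    rw [Sieve.ofArrows, Sieve.generate_le_iff]
    rintro _ _ ⟨i⟩
    exact (bij (Yf i) (hY i)).2 _

theorem sheafPullback_fullyFaithful (J : GrothendieckTopology C) (K : GrothendieckTopology C')
    (F : C ⥤ C') [F.IsContinuous J K] [F.IsCocontinuous J K] [F.Full] [F.Faithful] :
    (F.sheafPullback (Type u) J K).Full ∧ (F.sheafPullback (Type u) J K).Faithful := by
  let t : Adjunction.Triple (F.sheafPullback (Type u) J K)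
      (F.sheafPushforwardContinuous (Type u) J K) (F.sheafPushforwardCocontinuous (Type u) J K) :=
    ⟨F.sheafAdjunctionContinuous (Type u) J K, F.sheafAdjunctionCocontinuous (Type u) J K⟩
  have : IsIso (F.op.ranAdjunction (Type u)).counit := by
    rw [Functor.ranAdjunction_counit]; infer_instance
  have hR := (F.op.ranAdjunction (Type u)).fullyFaithfulROfIsIsoCounit
  have h1 : (F.sheafPushforwardCocontinuous (Type u) J K ⋙ sheafToPresheaf K (Type u)).FullyFaithful :=
    ((fullyFaithfulSheafToPresheaf J (Type u)).comp hR).ofIso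
      (F.sheafPushforwardCocontinuousCompSheafToPresheafIso (Type u) J K).symm
  have h2 := t.fullyFaithfulEquiv.symm (h1.ofCompFaithful)
  exact ⟨h2.full, h2.faithful⟩

theorem fullyFaithful_of_sheafPullback (J : GrothendieckTopology C) (K : GrothendieckTopology C')
    [J.Subcanonical] [K.Subcanonical] (F : C ⥤ C') [F.IsContinuous J K] [F.IsCocontinuous J K]
    (h : (F.sheafPullback (Type u) J K).Full ∧ (F.sheafPullback (Type u) J K).Faithful) :
    F.Full ∧ F.Faithful := by
  have := h.1
  have := h.2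
  let adj := F.sheafAdjunctionContinuous (Type u) J K
  let R := F.sheafPushforwardContinuous (Type u) J K
  let d : ∀ X : C, (F.sheafPullback (Type u) J K).obj (J.yoneda.obj X) ⟶ K.yoneda.obj (F.obj X) :=
    fun X => (adj.homEquiv _ _).symm (J.yonedaEquiv.symm
      (K.yonedaEquiv (𝟙 (K.yoneda.obj (F.obj X))) : (R.obj (K.yoneda.obj (F.obj X))).obj.obj (op X)))
  have hd : ∀ (X : C) (G : Sheaf K (Type u)) (g : K.yoneda.obj (F.obj X) ⟶ G),
      d X ≫ g = (adj.homEquiv _ _).symm (J.yonedaEquiv.symm
        (K.yonedaEquiv g : (R.obj G).obj.obj (op X))) := by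
    intro X G g
    rw [← Adjunction.homEquiv_naturality_right_symm]
    congr 1
    apply J.yonedaEquiv.injective
    rw [GrothendieckTopology.yonedaEquiv_comp, Equiv.apply_symm_apply, Equiv.apply_symm_apply]
    rfl
  have : ∀ X, IsIso (d X) := fun X => by
    have hb : ∀ G, Function.Bijective (fun g : K.yoneda.obj (F.obj X) ⟶ G => d X ≫ g) := fun G => by
      simp only [hd]
      exact ((K.yonedaEquiv (X := F.obj X) (F := G)).trans ((J.yonedaEquiv (X := X) (F := R.obj G)).symm.trans
        (adj.homEquiv _ _).symm)).bijective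
    obtain ⟨g, hg⟩ := (hb _).2 (𝟙 _)
    refine ⟨g, hg, (hb _).1 ?_⟩
    change d X ≫ g ≫ d X = d X ≫ 𝟙 _
    rw [← Category.assoc, show d X ≫ g = 𝟙 _ from hg, Category.id_comp, Category.comp_id]
  have e : F ⋙ K.yoneda ≅ J.yoneda ⋙ F.sheafPullback (Type u) J K :=
    (NatIso.ofComponents (fun X => asIso (d X)) (fun {X Y} f => by
      change (F.sheafPullback (Type u) J K).map (J.yoneda.map f) ≫ d Y = d X ≫ K.yoneda.map (F.map f)
      rw [hd]
      refine (Adjunction.homEquiv_naturality_left_symm _ _ _).symm.trans ?_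
      congr 1
      apply J.yonedaEquiv.injective
      rw [← GrothendieckTopology.yonedaEquiv_naturality, Equiv.apply_symm_apply,
        Equiv.apply_symm_apply]
      change (K.yoneda.obj (F.obj Y)).obj.map (F.map f).op (K.yonedaEquiv (𝟙 _)) = _
      rw [GrothendieckTopology.yonedaEquiv_naturality, Category.comp_id])).symm
  have h1 : (F ⋙ K.yoneda).Full := Functor.Full.of_iso e.symm
  have h2 : (F ⋙ K.yoneda).Faithful := Functor.Faithful.of_iso e.symm
  exact ⟨Functor.Full.of_comp_faithful F K.yoneda, Functor.Faithful.of_comp F K.yoneda⟩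

theorem hasEnoughPoints_of_coversTop (J : GrothendieckTopology C) {ι : Type u} (X : ι → C)
    (hX : J.CoversTop X) (h : ∀ i, GrothendieckTopology.HasEnoughPoints.{u} (J.over (X i))) :
    GrothendieckTopology.HasEnoughPoints.{u} J := by
  choose P hPs hP using fun i => (h i).exists_objectProperty
  refine ⟨ObjectProperty.ofObj (fun (p : Σ i, (P i).FullSubcategory) =>
    p.2.obj.map (Over.forget (X p.1)) J), inferInstance, ?_⟩
  refine ObjectProperty.IsConservativeFamilyOfPoints.mk' fun {Y} S hS => ?_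
  refine J.transitive (hX Y) S fun W f hf => ?_
  obtain ⟨i, ⟨g⟩⟩ := hf
  let T : Sieve (Over.mk g) := (Sieve.overEquiv (Over.mk g)).symm (S.pullback f)
  suffices T ∈ J.over (X i) (Over.mk g) by
    rw [GrothendieckTopology.mem_over_iff] at this
    simpa [T] using this
  obtain ⟨κ, Z, z, hz⟩ := T.exists_eq_ofArrows
  rw [hz, (hP i).jointly_reflect_ofArrows_mem_of_small]
  intro Φ x
  let p := CategoryOfElements.π Φ.obj.fiber ⋙ Over.forget (X i)
  obtain ⟨Z', k, hk, y, hy⟩ := hS ⟨_, ⟨(⟨i, Φ⟩ : Σ i, (P i).FullSubcategory)⟩⟩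
    (GrothendieckTopology.Point.ofIsCofiltered.fiberMk (p := p)
      (U := Φ.obj.fiber.elementsMk (Over.mk g) x) f)
  obtain ⟨V, a, rfl⟩ := GrothendieckTopology.Point.ofIsCofiltered.fiberMk_jointly_surjective y
  replace hy := (GrothendieckTopology.Point.ofIsCofiltered.fiber_map_fiberMk (p := p) a k).symm.trans hy
  let U := Φ.obj.fiber.elementsMk (Over.mk g) x
  obtain ⟨V', c, d, -⟩ := IsCofilteredOrEmpty.cone_objs V U
  obtain ⟨W', e, he⟩ := GrothendieckTopology.Point.ofIsCofiltered.exists_of_fiberMk_eq_fiberMk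
    (f₁ := p.map c ≫ a ≫ k) (f₂ := p.map d ≫ f)
    (by
      rw [GrothendieckTopology.Point.ofIsCofiltered.fiberMk_map_comp,
        GrothendieckTopology.Point.ofIsCofiltered.fiberMk_map_comp]
      exact hy)
  have hmem : Sieve.ofArrows Z z (e ≫ d).1 := by
    rw [← hz]
    rw [Sieve.overEquiv_symm_iff]
    change S (((e ≫ d).1).left ≫ f)
    have hmap : ((e ≫ d).1).left ≫ f = (p.map e ≫ p.map c ≫ a) ≫ k :=
      ((Category.assoc (p.map e) (p.map d) f).trans he.symm).trans
        ((Category.assoc _ _ _).trans (congrArg (p.map e ≫ ·) (Category.assoc _ _ _))).symm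
    rw [hmap]
    exact S.downward_closed hk _
  obtain ⟨j, l, hl⟩ := (Sieve.mem_ofArrows_iff ..).1 hmem
  refine ⟨j, Φ.obj.fiber.map l W'.2, ?_⟩
  rw [← Functor.map_comp_apply, ← hl]
  exact (e ≫ d).2

end sites

section misc

variable {E : Type u} [Category.{v} E]

theorem preservesLimits_forget_of_mono [HasTerminal E] {U : E} (hU : Mono (terminal.from U))
    (I : Type w) [Nonempty I] : PreservesLimitsOfShape (Discrete I) (Over.forget U) := by
  refine ⟨fun {K} => ⟨fun {c} hc => ⟨?_⟩⟩⟩
  let i₀ := Classical.arbitrary I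
  have huniq : ∀ {T : E} (a b : T ⟶ U), a = b := fun a b =>
    (cancel_mono (terminal.from U)).1 (terminal.hom_ext _ _)
  let mk : Cone (K ⋙ Over.forget U) → Cone K := fun s =>
    { pt := Over.mk (s.π.app ⟨i₀⟩ ≫ (K.obj ⟨i₀⟩).hom)
      π := Discrete.natTrans fun j => Over.homMk (s.π.app j) (huniq _ _) }
  exact
    { lift := fun s => (hc.lift (mk s)).left
      fac := fun s j => congrArg CommaMorphism.left (hc.fac (mk s) j)
      uniq := fun s m hm => by
        have : (Over.homMk m (huniq _ _) : (mk s).pt ⟶ c.pt) = hc.lift (mk s) :=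
          hc.uniq (mk s) _ fun j => Over.OverMorphism.ext (hm j)
        exact congrArg CommaMorphism.left this }

theorem isCorepresentable_iff {C : Type u} [Category.{v} C] [HasLimitsOfSize.{v, v} C]
    (F : C ⥤ Type v) :
    F.IsCorepresentable ↔
      IsIndObject (unopUnop C ⋙ F) ∧ PreservesLimitsOfSize.{v, v} F := by
  constructor
  · intro _
    refine ⟨?_, ?_⟩
    · exact (IsIndObject.iff_of_iso (NatIso.ofComponents
        (fun X => Equiv.toIso ((opEquiv X.unop (op F.coreprX)).trans
          (F.coreprW.app X.unop.unop).toEquiv))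
        (fun {X Y} f => by
          ext a
          exact NatTrans.naturality_apply F.coreprW.hom f.unop.unop (a : X.unop ⟶ op F.coreprX).unop) :
          yoneda.obj (op F.coreprX) ≅ unopUnop C ⋙ F).hom).1 (isIndObject_yoneda _)
    · exact preservesLimits_of_natIso F.coreprW
  · rintro ⟨hI, hF⟩
    let P := hI.presentation
    let D : P.Iᵒᵖ ⥤ C := P.F.op ⋙ unopUnop C
    let c := limit D
    let el : ∀ i : P.I, F.obj (P.F.obj i).unop := fun i =>
      (P.ι.app i).app (op (P.F.obj i)) (𝟙 _)
    have hel : ∀ {i j : P.I} (m : i ⟶ j), F.map (P.F.map m).unop (el j) = el i := by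
      intro i j m
      have h1 := NatTrans.naturality_apply (P.ι.app j) (P.F.map m).op (𝟙 (P.F.obj j))
      have h0 := congr_app (P.ι.naturality m) (op (P.F.obj i))
      have h2 : ((P.F ⋙ yoneda).map m ≫ P.ι.app j).app (op (P.F.obj i)) (𝟙 (P.F.obj i)) =
          (P.ι.app i ≫ ((Functor.const P.I).obj (unopUnop C ⋙ F)).map m).app (op (P.F.obj i))
            (𝟙 (P.F.obj i)) := by rw [h0]
      simp at h1 h2
      exact (h1.symm.trans h2)
    have hlim := isLimitOfPreserves F (limit.isLimit D)
    obtain ⟨ξ, hξ, -⟩ := (Types.isLimit_iff _).1 ⟨hlim⟩ (fun i => el i.unop)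
      (fun {i j} m => hel m.unop)
    have hsurj : ∀ {X : C} (x : F.obj X), ∃ (i : P.I) (f : (P.F.obj i).unop ⟶ X),
        F.map f (el i) = x := by
      intro X x
      obtain ⟨i, f, hfi⟩ := Types.jointly_surjective _
        (isColimitOfPreserves ((evaluation _ _).obj (op (op X))) P.coconeIsColimit) x
      refine ⟨i, f.unop, ?_⟩
      have h1 := NatTrans.naturality_apply (P.ι.app i) f.op (𝟙 (P.F.obj i))
      simp at h1
      exact h1.symm.trans hfi
    have hbij : ∀ X : C, Function.Bijective (fun f : c ⟶ X => F.map f ξ) := by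
      have hsur : ∀ X : C, Function.Surjective (fun f : c ⟶ X => F.map f ξ) := fun X x => by
        obtain ⟨i, f, rfl⟩ := hsurj x
        refine ⟨limit.π D (op i) ≫ f, ?_⟩
        change F.map (limit.π D (op i) ≫ f) ξ = _
        rw [Functor.map_comp_apply]
        exact congrArg _ (hξ (op i))
      refine fun X => ⟨?_, hsur X⟩
      intro f g hfg
      have hb : ∀ (i k : P.I) (b : (P.F.obj i).unop ⟶ (P.F.obj k).unop), F.map b (el i) = el k →
          limit.π D (op i) ≫ b = limit.π D (op k) := by
        intro i k b e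
        let Ev := (evaluation Cᵒᵖᵒᵖ (Type v)).obj (op (P.F.obj k))
        have hq : (Ev.mapCocone P.cocone).ι.app i (b.op : P.F.obj k ⟶ P.F.obj i) =
            (Ev.mapCocone P.cocone).ι.app k (𝟙 (P.F.obj k)) := by
          have h1 := NatTrans.naturality_apply (P.ι.app i) b.op.op (𝟙 (P.F.obj i))
          simp at h1
          exact h1.trans e
        obtain ⟨l, m, n, hmn⟩ := (Types.FilteredColimit.isColimit_eq_iff _
          (isColimitOfPreserves Ev P.coconeIsColimit)).1 hq
        have hmn' : b.op ≫ P.F.map m = 𝟙 (P.F.obj k) ≫ P.F.map n := hmn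
        rw [Category.id_comp] at hmn'
        have h2 := congrArg Quiver.Hom.unop hmn'
        rw [unop_comp] at h2
        rw [← limit.w D m.op, ← limit.w D n.op, Category.assoc]
        exact congrArg (limit.π D (op l) ≫ ·) h2
      let K := parallelPair f g
      have hl := isLimitForkMapOfIsLimit F (equalizer.condition f g) (equalizerIsEqualizer f g)
      obtain ⟨η, hη, -⟩ := (Types.type_equalizer_iff_unique _ _).1 ⟨hl⟩ ξ hfg
      obtain ⟨i, a, ha⟩ := hsurj η
      have hρ : limit.π D (op i) ≫ a ≫ equalizer.ι f g = 𝟙 c := by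
        apply limit.hom_ext
        rintro ⟨k⟩
        rw [Category.assoc, Category.id_comp, Category.assoc]
        refine hb i k _ ?_
        rw [Functor.map_comp_apply, ha, Functor.map_comp_apply, hη]
        exact hξ (op k)
      have := congrArg (limit.π D (op i) ≫ a ≫ ·) (equalizer.condition f g)
      simp only [← Category.assoc] at this hρ
      rw [hρ] at this
      exact (Category.id_comp f).symm.trans (this.trans (Category.id_comp g))
    exact Functor.CorepresentableBy.isCorepresentable
      { homEquiv := fun {X} => Equiv.ofBijective _ (hbij X)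
        homEquiv_comp := fun g f => Functor.map_comp_apply F f g ξ }

/-- The maps from a family into `B` factoring through a morphism. -/
def factorSet {κ : Type v} (G : κ → E) {A B : E} (m : A ⟶ B) : Set (Σ k, G k ⟶ B) :=
  {p | ∃ q : G p.1 ⟶ A, q ≫ m = p.2}

theorem exists_small_detecting_subfamily [HasPullbacks E] {κ : Type v} (G : κ → E)
    (hG : (ObjectProperty.ofObj G).IsDetecting) {I : Type w} (Y : I → E)
    (hY : (ObjectProperty.ofObj Y).IsDetecting) :
    ∃ J : Set I, Small.{v} J ∧ (ObjectProperty.ofObj (fun j : J => Y j)).IsDetecting := by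
  let Γ := Σ k : κ, {S : Set (Σ k', G k' ⟶ G k) //
    ∃ (i : I) (h : Y i ⟶ G k), ∀ (A : E) (m : A ⟶ G k), Mono m → factorSet G m = S →
      ¬ ∃ q, q ≫ m = h}
  choose sel hsel hprop using fun γ : Γ => γ.2.2
  refine ⟨Set.range sel, inferInstance, ?_⟩
  have hsame : ∀ {B : E} {A A' : E} (m : A ⟶ B) (m' : A' ⟶ B) [Mono m] [Mono m'],
      factorSet G m = factorSet G m' → ∀ {T : E} (h : T ⟶ B),
      (∃ q, q ≫ m = h) → ∃ q, q ≫ m' = h := by
    intro B A A' m m' _ _ hS T h ⟨q, hq⟩
    have : IsIso (pullback.fst m m') := hG _ fun T' hT' g => by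
      obtain ⟨k⟩ := hT'
      have hmem : (⟨k, g ≫ m⟩ : Σ k, G k ⟶ B) ∈ factorSet G m' := hS ▸ ⟨g, rfl⟩
      obtain ⟨g', hg'⟩ := hmem
      refine ⟨pullback.lift g g' hg'.symm, by simp [pullback.lift_fst], fun y hy => ?_⟩
      rw [← cancel_mono (pullback.fst m m'), hy, pullback.lift_fst]
    exact ⟨q ≫ inv (pullback.fst m m') ≫ pullback.snd m m', by
      simp [← pullback.condition, hq]⟩
  have mono_case : ∀ {A B : E} (m : A ⟶ B) [Mono m],
      (∀ (j : Set.range sel) (h : Y j ⟶ B), ∃ q, q ≫ m = h) → IsIso m := by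
    intro A B m _ hm
    refine hG m fun T hT g => ?_
    obtain ⟨k⟩ := hT
    let n := pullback.fst g m
    suffices IsIso n by
      refine ⟨inv n ≫ pullback.snd g m, by simp [n, ← pullback.condition], fun y hy => ?_⟩
      rw [← cancel_mono m, hy]
      simp [n, ← pullback.condition]
    by_contra hn
    obtain ⟨i, h, hih⟩ : ∃ (i : I) (h : Y i ⟶ G k), ¬ ∃ q, q ≫ n = h := by
      by_contra hne
      push Not at hne
      refine hn (hY n fun T hT h => ?_)
      obtain ⟨i⟩ := hT
      obtain ⟨q, hq⟩ := hne i h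
      exact ⟨q, hq, fun y hy => (cancel_mono n).1 (hy.trans hq.symm)⟩
    let γ : Γ := ⟨k, factorSet G n, i, h, fun A' m' _ hS ⟨q, hq⟩ =>
      hih (hsame m' n hS h ⟨q, hq⟩)⟩
    obtain ⟨q, hq⟩ := hm ⟨sel γ, γ, rfl⟩ (hsel γ ≫ g)
    exact hprop γ _ n inferInstance rfl
      ⟨pullback.lift (hsel γ) q hq.symm, by simp [n, pullback.lift_fst]⟩
  intro A B f hf
  have hmono : IsIso (pullback.diagonal f) := mono_case _ fun j h => by
    obtain ⟨q₀, -, huq⟩ := hf _ ⟨j⟩ (h ≫ pullback.fst f f ≫ f)
    refine ⟨h ≫ pullback.fst f f, ?_⟩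
    apply pullback.hom_ext
    · simp
    · simp only [Category.assoc, pullback.diagonal_snd, Category.comp_id]
      rw [huq (h ≫ pullback.snd f f) (by simp [pullback.condition]),
        huq (h ≫ pullback.fst f f) (by simp)]
  have : Mono f := (pullback.isIso_diagonal_iff f).1 hmono
  exact mono_case f fun j h => let ⟨q, hq, _⟩ := hf _ ⟨j⟩ h; ⟨q, hq⟩

end misc

end Groth.Agent.SGA45
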