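import Groth.Agent.SGA45.ClosedCompl
import Mathlib.CategoryTheory.Adjunction.Triple
import Mathlib.CategoryTheory.Comma.Basic

set_option autoImplicit false
universe u

open CategoryTheory Limits Opposite

namespace Groth.Agent.SGA45.Gluing

section abstract

variable {E : Type*} [Category E] {F : Type*} [Category F] {A : Type*} [Category A]
  {L : E ⥤ F} {i : F ⥤ E} (a₁ : L ⊣ i) {S : E ⥤ A} {R : A ⥤ E} (a₂ : S ⊣ R)

/-- `X ↦ (L X, S X, L (X ⟶ R S X))`. -/
@[simps]
def Φ : E ⥤ Comma (𝟭 F) (R ⋙ L) where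
  obj X := { left := L.obj X, right := S.obj X, hom := L.map (a₂.unit.app X) }
  map m :=
    { left := L.map m
      right := S.map m
      w := by
        dsimp
        rw [← L.map_comp, ← L.map_comp]
        exact congrArg L.map (a₂.unit.naturality m) }
  map_id X := by ext <;> simp
  map_comp f g := by ext <;> simp

variable [HasPullbacks E] [i.Full] [i.Faithful] [R.Full] [R.Faithful]
  [PreservesLimitsOfShape WalkingCospan L] [PreservesLimitsOfShape WalkingCospan S]
  (hcons : ∀ ⦃X Y : E⦄ (m : X ⟶ Y), IsIso (S.map m) → IsIso (L.map m) → IsIso m)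
  (hclosed : ∀ ⦃Y Y' : F⦄ (φ : Y ⟶ Y'), IsIso (S.map (i.map φ)))

include hcons hclosed in
lemma fracture (X : E) :
    IsPullback (a₁.unit.app X) (a₂.unit.app X) (i.map (L.map (a₂.unit.app X)))
      (a₁.unit.app (R.obj (S.obj X))) := by
  have w : a₁.unit.app X ≫ i.map (L.map (a₂.unit.app X)) =
      a₂.unit.app X ≫ a₁.unit.app (R.obj (S.obj X)) := (a₁.unit.naturality (a₂.unit.app X)).symm
  let c := pullback.lift (f := i.map (L.map (a₂.unit.app X)))
    (g := a₁.unit.app (R.obj (S.obj X))) (a₁.unit.app X) (a₂.unit.app X) w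
  suffices IsIso c from IsPullback.of_iso_pullback ⟨w⟩ (asIso c) (pullback.lift_fst _ _ _)
    (pullback.lift_snd _ _ _)
  have hp := IsPullback.of_hasPullback (i.map (L.map (a₂.unit.app X))) (a₁.unit.app (R.obj (S.obj X)))
  apply hcons
  · have := hclosed (L.map (a₂.unit.app X))
    have : IsIso (S.map (pullback.snd (i.map (L.map (a₂.unit.app X)))
        (a₁.unit.app (R.obj (S.obj X))))) := (hp.map S).isIso_snd_of_isIso
    have : IsIso (S.map (a₂.unit.app X)) := inferInstance
    have e : S.map c ≫ S.map (pullback.snd (i.map (L.map (a₂.unit.app X)))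
        (a₁.unit.app (R.obj (S.obj X)))) = S.map (a₂.unit.app X) := by
      rw [← S.map_comp, pullback.lift_snd]
    exact IsIso.of_isIso_fac_right e
  · have : IsIso (L.map (a₁.unit.app (R.obj (S.obj X)))) := inferInstance
    have : IsIso (L.map (pullback.fst (i.map (L.map (a₂.unit.app X)))
        (a₁.unit.app (R.obj (S.obj X))))) := (hp.map L).isIso_fst_of_isIso
    have : IsIso (L.map (a₁.unit.app X)) := inferInstance
    have e : L.map c ≫ L.map (pullback.fst (i.map (L.map (a₂.unit.app X)))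
        (a₁.unit.app (R.obj (S.obj X)))) = L.map (a₁.unit.app X) := by
      rw [← L.map_comp, pullback.lift_fst]
    exact IsIso.of_isIso_fac_right e

include a₁ a₂ hcons hclosed in
lemma faithful_Φ : (Φ (L := L) a₂).Faithful where
  map_injective {X X'} f g e := by
    apply (fracture a₁ a₂ hcons hclosed X').hom_ext
    · rw [a₁.unit_naturality f |>.symm, a₁.unit_naturality g |>.symm]
      exact congrArg (fun t => a₁.unit.app X ≫ i.map t) (congrArg CommaMorphism.left e)
    · rw [a₂.unit_naturality f |>.symm, a₂.unit_naturality g |>.symm]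
      exact congrArg (fun t => a₂.unit.app X ≫ R.map t) (congrArg CommaMorphism.right e)

include a₁ a₂ hcons hclosed in
lemma full_Φ : (Φ (L := L) a₂).Full where
  map_surjective {X X'} φ := by
    let l : L.obj X ⟶ L.obj X' := φ.left
    let r : S.obj X ⟶ S.obj X' := φ.right
    have hw : l ≫ L.map (a₂.unit.app X') =
        L.map (a₂.unit.app X) ≫ L.map (R.map r) := φ.w
    have hp := fracture a₁ a₂ hcons hclosed X'
    have hc : (a₁.unit.app X ≫ i.map l) ≫ i.map (L.map (a₂.unit.app X')) =
        (a₂.unit.app X ≫ R.map r) ≫ a₁.unit.app (R.obj (S.obj X')) := by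
      rw [Category.assoc, ← i.map_comp, hw, ← L.map_comp]
      exact a₁.unit_naturality _
    refine ⟨hp.lift _ _ hc, ?_⟩
    ext
    · apply (a₁.homEquiv _ _).injective
      rw [a₁.homEquiv_unit, a₁.homEquiv_unit]
      exact (a₁.unit_naturality _).trans (hp.lift_fst _ _ hc)
    · apply (a₂.homEquiv _ _).injective
      rw [a₂.homEquiv_unit, a₂.homEquiv_unit]
      exact (a₂.unit_naturality _).trans (hp.lift_snd _ _ hc)

include a₁ a₂ hclosed in
lemma essSurj_Φ : (Φ (L := L) a₂).EssSurj where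
  mem_essImage M := by
    obtain ⟨Y, Z, φ⟩ := M
    let φ' : Y ⟶ L.obj (R.obj Z) := φ
    have hp := IsPullback.of_hasPullback (i.map φ') (a₁.unit.app (R.obj Z))
    let p₁ := pullback.fst (i.map φ') (a₁.unit.app (R.obj Z))
    let p₂ := pullback.snd (i.map φ') (a₁.unit.app (R.obj Z))
    have : IsIso (L.map p₁) := (hp.map L).isIso_fst_of_isIso
    have := hclosed φ'
    have : IsIso (S.map p₂) := (hp.map S).isIso_snd_of_isIso
    let l := asIso (L.map p₁) ≪≫ asIso (a₁.counit.app Y)
    let r := asIso (S.map p₂) ≪≫ asIso (a₂.counit.app Z)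
    refine ⟨pullback (i.map φ') (a₁.unit.app (R.obj Z)), ⟨Comma.isoMk l r ?_⟩⟩
    show (L.map p₁ ≫ a₁.counit.app Y) ≫ φ' =
      L.map (a₂.unit.app _) ≫ L.map (R.map (S.map p₂ ≫ a₂.counit.app Z))
    have e1 : a₂.unit.app _ ≫ R.map (S.map p₂ ≫ a₂.counit.app Z) = p₂ := by
      simp
    rw [← L.map_comp, e1, Category.assoc, ← a₁.counit_naturality φ', ← Category.assoc,
      ← L.map_comp, hp.w, L.map_comp, Category.assoc]
    exact (congrArg (L.map p₂ ≫ ·) (a₁.left_triangle_components _)).trans (Category.comp_id _)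

include a₁ a₂ hcons hclosed in
lemma nonempty_equiv : Nonempty (E ≌ Comma (𝟭 F) (R ⋙ L)) := by
  have := faithful_Φ a₁ a₂ hcons hclosed
  have := full_Φ a₁ a₂ hcons hclosed
  have := essSurj_Φ a₁ a₂ hclosed
  have : (Φ (L := L) a₂).IsEquivalence := { }
  exact ⟨(Φ (L := L) a₂).asEquivalence⟩

end abstract

open ClosedCompl in
theorem S3085_main {C : Type u} [SmallCategory C] (J : GrothendieckTopology C)
    (U : Sheaf J (Type u)) (hU : SGA4.IsOpen U) [(Over.star U).IsLeftAdjoint]
    (L : Sheaf J (Type u) ⥤ (SGA4.closedCompl U).FullSubcategory)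
    (adj : L ⊣ (SGA4.closedCompl U).ι) :
    Nonempty (Sheaf J (Type u) ≌
      Comma (𝟭 (SGA4.closedCompl U).FullSubcategory) ((Over.star U).rightAdjoint ⋙ L)) := by
  have : Mono (terminal.from U) := hU
  have hff : (Over.forget U).Full := ⟨fun {A B} f =>
    ⟨Over.homMk f ((cancel_mono (terminal.from U)).1 (terminalIsTerminal.hom_ext _ _)), rfl⟩⟩
  let t : Adjunction.Triple (Over.forget U) (Over.star U) (Over.star U).rightAdjoint :=
    ⟨Over.forgetAdjStar U, Adjunction.ofIsLeftAdjoint _⟩
  have hR := t.fullyFaithfulEquiv (Functor.FullyFaithful.ofFullyFaithful _)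
  have := hR.full
  have := hR.faithful
  have := preservesFiniteLimits_of_adj U L adj hU
  have : (Over.star U).IsRightAdjoint := inferInstance
  refine nonempty_equiv adj t.adj₂ (fun X Y m h1 h2 => (S3084_main U hU L adj m).2 ⟨h1, h2⟩) ?_
  intro Y Y' φ
  rw [isIso_star_map_iff]
  intro W a
  obtain ⟨h₁, ⟨y₀⟩⟩ := (closedCompl_iff U _).1 Y.property W a
  obtain ⟨h₁', _⟩ := (closedCompl_iff U _).1 Y'.property W a
  exact ⟨fun x y _ => h₁.elim x y, fun y => ⟨y₀, h₁'.elim _ y⟩⟩

end Groth.Agent.SGA45.Gluing
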