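import Mathlib.CategoryTheory.FiberedCategory.Fibered
import Mathlib.CategoryTheory.FiberedCategory.Fiber
import Mathlib.CategoryTheory.Generator.Basic
import Mathlib.CategoryTheory.Subobject.Basic
import Mathlib.CategoryTheory.Limits.Shapes.RegularMono
import Mathlib.CategoryTheory.Limits.Shapes.Diagonal
import Mathlib.CategoryTheory.EffectiveEpi.Basic
import Mathlib.CategoryTheory.Preadditive.Injective.Basic
import Mathlib.CategoryTheory.Limits.Preserves.Shapes.Pullbacks
import Mathlib.CategoryTheory.Sites.Canonical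
import Mathlib.CategoryTheory.Limits.Preserves.Shapes.Equalizers
import Mathlib.Logic.Small.Basic

open CategoryTheory CategoryTheory.Limits Opposite

universe w v₁ v₂ u₁ u₂

namespace Groth.Agent.SGA45

section products

variable {I : Type u₁} [Category.{v₁} I] {C : Type u₂} [Category.{v₂} C] {A : Type w} (i : A → I)
  [∀ α β, HasBinaryProduct (i α) (i β)] (hcov : ∀ j : I, ∃ α, Nonempty (j ⟶ i α))
  (F : Iᵒᵖ ⥤ C) [HasEqualizers C]
  [HasProduct (fun α => F.obj (op (i α)))]
  [HasProduct (fun p : A × A => F.obj (op (i p.1 ⨯ i p.2)))]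

include hcov in
theorem limit_isEqualizer_of_products :
    HasLimit F ∧ ∀ [HasLimit F],
      Mono (Pi.lift (fun α => limit.π F (op (i α)))) ∧
      ∀ (T : C) (t : T ⟶ ∏ᶜ (fun α => F.obj (op (i α)))),
        (∃ s : T ⟶ limit F, s ≫ Pi.lift (fun α => limit.π F (op (i α))) = t) ↔
        t ≫ Pi.lift (fun p : A × A =>
            Pi.π (fun α => F.obj (op (i α))) p.1 ≫ F.map (prod.fst : i p.1 ⨯ i p.2 ⟶ i p.1).op) =
        t ≫ Pi.lift (fun p : A × A =>
            Pi.π (fun α => F.obj (op (i α))) p.2 ≫ F.map (prod.snd : i p.1 ⨯ i p.2 ⟶ i p.2).op) := by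
  classical
  let g₁ := Pi.lift (fun p : A × A =>
    Pi.π (fun α => F.obj (op (i α))) p.1 ≫ F.map (prod.fst : i p.1 ⨯ i p.2 ⟶ i p.1).op)
  let g₂ := Pi.lift (fun p : A × A =>
    Pi.π (fun α => F.obj (op (i α))) p.2 ≫ F.map (prod.snd : i p.1 ⨯ i p.2 ⟶ i p.2).op)
  choose a ha using hcov
  have key : ∀ {T : C} (t : T ⟶ ∏ᶜ (fun α => F.obj (op (i α)))), t ≫ g₁ = t ≫ g₂ →
      ∀ {j : I} {α β : A} (f : j ⟶ i α) (g : j ⟶ i β),
        t ≫ Pi.π _ α ≫ F.map f.op = t ≫ Pi.π _ β ≫ F.map g.op := by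
    intro T t ht j α β f g
    have h := congrArg (fun q => q ≫ Pi.π _ (α, β) ≫ F.map (prod.lift f g).op) ht
    simpa [g₁, g₂, ← Functor.map_comp, ← op_comp, prod.lift_fst, prod.lift_snd] using h
  let mkCone : ∀ {T : C} (t : T ⟶ ∏ᶜ (fun α => F.obj (op (i α)))), t ≫ g₁ = t ≫ g₂ → Cone F :=
    fun {T} t ht =>
    { pt := T
      π :=
        { app := fun j => t ≫ Pi.π _ (a j.unop) ≫ F.map (ha j.unop).some.op
          naturality := fun j k φ => by
            dsimp
            rw [Category.id_comp, Category.assoc, Category.assoc, ← F.map_comp]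
            exact (key t ht (φ.unop ≫ (ha j.unop).some) (ha k.unop).some).symm } }
  have mk_π : ∀ {T : C} (t : T ⟶ ∏ᶜ (fun α => F.obj (op (i α)))) (ht : t ≫ g₁ = t ≫ g₂) (α : A),
      (mkCone t ht).π.app (op (i α)) = t ≫ Pi.π _ α := by
    intro T t ht α
    simpa [mkCone] using key t ht (ha (i α)).some (𝟙 _)
  have cond : ∀ (s : Cone F), Pi.lift (fun α => s.π.app (op (i α))) ≫ g₁ =
      Pi.lift (fun α => s.π.app (op (i α))) ≫ g₂ := by
    intro s
    apply Pi.hom_ext
    intro p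
    simp [g₁, g₂]
  let L := mkCone (equalizer.ι g₁ g₂) (equalizer.condition g₁ g₂)
  have hlim : IsLimit L :=
    { lift := fun s => equalizer.lift (Pi.lift fun α => s.π.app (op (i α))) (cond s)
      fac := fun s j => by
        change equalizer.lift _ _ ≫ equalizer.ι g₁ g₂ ≫ _ ≫ _ = _
        rw [← Category.assoc, equalizer.lift_ι]
        simp
      uniq := fun s m hm => by
        apply equalizer.hom_ext
        apply Pi.hom_ext
        intro α
        rw [equalizer.lift_ι, Category.assoc,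
          ← mk_π (equalizer.ι g₁ g₂) (equalizer.condition g₁ g₂) α]
        simpa [L] using hm (op (i α)) }
  refine ⟨⟨⟨⟨L, hlim⟩⟩⟩, ?_⟩
  intro _
  have hm : ∀ {T : C} (x y : T ⟶ limit F),
      (∀ α, x ≫ limit.π F (op (i α)) = y ≫ limit.π F (op (i α))) → x = y := by
    intro T x y h
    apply limit.hom_ext
    intro j
    rw [← limit.w F (ha j.unop).some.op, ← Category.assoc, ← Category.assoc, h]
  refine ⟨⟨fun x y h => hm x y fun α => by simpa using congrArg (· ≫ Pi.π _ α) h⟩, fun T t => ?_⟩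
  refine ⟨?_, fun ht => ⟨limit.lift F (mkCone t ht), ?_⟩⟩
  · rintro ⟨s, rfl⟩
    simp only [Category.assoc]
    congr 1
    apply Pi.hom_ext
    intro p
    simp
  · apply Pi.hom_ext
    intro α
    simpa using mk_π t ht α

end products

section fibered

variable {B : Type u₁} [Category.{v₁} B] {E : Type u₂} [Category.{v₂} E] (p : E ⥤ B) [p.IsFibered]

theorem reflectsIsomorphisms_iff_isGroupoid_fiber :
    p.ReflectsIsomorphisms ↔ ∀ b : B, IsGroupoid (p.Fiber b) := by
  constructor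
  · intro _ b
    refine ⟨fun {x y} f => ?_⟩
    have := f.2
    have hp : IsIso (p.map f.1) := by
      rw [IsHomLift.fac' p (𝟙 b) f.1]
      infer_instance
    have : IsIso f.1 := isIso_of_reflects_iso f.1 p
    have : p.IsHomLift (𝟙 b) (inv f.1) := IsHomLift.lift_id_inv_isIso p b f.1
    exact ⟨⟨inv f.1, this⟩, Functor.Fiber.hom_ext (IsIso.hom_inv_id f.1),
      Functor.Fiber.hom_ext (IsIso.inv_hom_id f.1)⟩
  · intro h
    refine ⟨fun {x y} f _ => ?_⟩
    let q := p.map f
    let φ := Functor.IsPreFibered.pullbackMap (p := p) rfl q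
    have : IsIso q := ‹_›
    have hφ : IsIso φ := Functor.IsStronglyCartesian.isIso_of_base_isIso p q φ
    have hl : p.IsHomLift q f := IsHomLift.map p f
    let χ : Functor.Fiber.mk (p := p) (rfl : p.obj x = p.obj x) ⟶
        Functor.Fiber.mk (Functor.IsPreFibered.pullbackObj_proj rfl q) :=
      ⟨(Functor.IsCartesian.map p q φ f :), Functor.IsCartesian.map_isHomLift p q φ f⟩
    have := (h (p.obj x)).all_isIso χ
    have : IsIso (Functor.IsCartesian.map p q φ f) :=
      inferInstanceAs (IsIso (Functor.Fiber.fiberInclusion.map χ))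
    rw [← Functor.IsCartesian.fac p q φ f]
    infer_instance

theorem faithful_iff_subsingleton_hom_fiber :
    p.Faithful ↔ ∀ (b : B) (x y : p.Fiber b), Subsingleton (x ⟶ y) := by
  constructor
  · intro _ b x y
    refine ⟨fun f g => Functor.Fiber.hom_ext (p.map_injective ?_)⟩
    have := f.2
    have := g.2
    exact (IsHomLift.fac' p (𝟙 b) f.1).trans (IsHomLift.fac' p (𝟙 b) g.1).symm
  · intro h
    refine ⟨fun {x y f g} e => ?_⟩
    let φ := Functor.IsPreFibered.pullbackMap (p := p) rfl (p.map f)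
    have hlg : p.IsHomLift (p.map f) g := by
      rw [e]; exact IsHomLift.map p g
    have hlf : p.IsHomLift (p.map f) f := IsHomLift.map p f
    let χ : Functor.Fiber.mk (p := p) (rfl : p.obj x = p.obj x) ⟶
        Functor.Fiber.mk (Functor.IsPreFibered.pullbackObj_proj rfl (p.map f)) :=
      ⟨(Functor.IsCartesian.map p (p.map f) φ f :), Functor.IsCartesian.map_isHomLift p (p.map f) φ f⟩
    let χ' : Functor.Fiber.mk (p := p) (rfl : p.obj x = p.obj x) ⟶
        Functor.Fiber.mk (Functor.IsPreFibered.pullbackObj_proj rfl (p.map f)) :=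
      ⟨(Functor.IsCartesian.map p (p.map f) φ g :), Functor.IsCartesian.map_isHomLift p (p.map f) φ g⟩
    have := congrArg Subtype.val ((h _ _ _).elim χ χ')
    rw [← Functor.IsCartesian.fac p (p.map f) φ f, ← Functor.IsCartesian.fac p (p.map f) φ g]
    exact congrArg (· ≫ φ) this

end fibered

section detect

variable {E : Type u₁} [Category.{v₁} E] [HasPullbacks E]

lemma isIso_of_isIso_diagonal {κ : Type*} {E' : κ → Type u₂} [∀ k, Category.{v₂} (E' k)]
    (φ : ∀ k, E ⥤ E' k) [∀ k, PreservesLimitsOfShape WalkingCospan (φ k)]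
    (h : ∀ ⦃X Y : E⦄ (u : X ⟶ Y), Mono u → (∀ k, IsIso ((φ k).map u)) → IsIso u)
    {X Y : E} (u : X ⟶ Y) (hu : ∀ k, IsIso ((φ k).map u)) : IsIso u := by
  have : IsIso (pullback.diagonal u) := by
    refine h _ inferInstance fun k => ?_
    have := hu k
    have hpb := (IsPullback.of_hasPullback u u).map (φ k)
    have h1 : IsIso ((φ k).map (pullback.fst u u)) := hpb.isIso_fst_of_isIso
    have h2 : IsIso ((φ k).map (pullback.diagonal u) ≫ (φ k).map (pullback.fst u u)) := by
      rw [← Functor.map_comp, pullback.diagonal_fst, CategoryTheory.Functor.map_id]; infer_instance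
    exact IsIso.of_isIso_comp_right _ ((φ k).map (pullback.fst u u))
  exact h u ((pullback.isIso_diagonal_iff u).1 this) hu

theorem reflectsIsomorphisms_of_reflects_on_mono {F : Type u₂} [Category.{v₂} F] (φ : E ⥤ F)
    [PreservesLimitsOfShape WalkingCospan φ]
    (h : ∀ ⦃X Y : E⦄ (u : X ⟶ Y), Mono u → IsIso (φ.map u) → IsIso u) :
    φ.ReflectsIsomorphisms :=
  ⟨fun u hu => isIso_of_isIso_diagonal (κ := Unit) (fun _ => φ)
    (fun _ _ u hm hu => h u hm (hu ())) u (fun _ => hu)⟩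

theorem jointlyReflects_iff_subobjects (P : ObjectProperty E) (hP : P.IsDetecting)
    {κ : Type w} {E' : κ → Type u₂} [∀ k, Category.{v₂} (E' k)] (φ : ∀ k, E ⥤ E' k)
    [∀ k, PreservesLimitsOfShape WalkingCospan (φ k)] :
    (∀ ⦃X Y : E⦄ (f : X ⟶ Y), (∀ k, IsIso ((φ k).map f)) → IsIso f) ↔
      ∀ (X : E), P X → ∀ (X' : Subobject X), X' ≠ ⊤ → ∃ k, ¬ IsIso ((φ k).map X'.arrow) := by
  constructor
  · intro h X _ X' hX'
    by_contra hne
    push Not at hne
    have := h X'.arrow hne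
    exact hX' (Subobject.eq_top_of_isIso_arrow X')
  · intro h X Y f hf
    refine isIso_of_isIso_diagonal φ (fun X Y u hu hk => hP u fun G hG g => ?_) f hf
    let m := pullback.fst g u
    have hiso : ∀ k, IsIso ((φ k).map (Subobject.mk m).arrow) := fun k => by
      have := hk k
      have : IsIso ((φ k).map m) := ((IsPullback.of_hasPullback g u).map (φ k)).isIso_fst_of_isIso
      rw [← Subobject.underlyingIso_hom_comp_eq_mk, Functor.map_comp]
      infer_instance
    have htop : Subobject.mk m = ⊤ := by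
      by_contra hne
      obtain ⟨k, hk'⟩ := h G hG _ hne
      exact hk' (hiso k)
    have : IsIso m := (Subobject.isIso_iff_mk_eq_top m).2 htop
    refine ⟨inv m ≫ pullback.snd g u, ?_, fun y hy => ?_⟩
    · simp [m, ← pullback.condition]
    · rw [← cancel_mono u, hy]
      simp [m, ← pullback.condition]

end detect

section sep

variable {E : Type u₁} [Category.{v₁} E]

theorem isCoseparating_iff {C D : ObjectProperty E} (hC : C.IsSeparating) :
    D.IsCoseparating ↔
      ∀ (T X : E), C T → ∀ (u v : T ⟶ X), u ≠ v →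
        ∃ (I : E) (_ : D I) (w : X ⟶ I), u ≫ w ≠ v ≫ w := by
  constructor
  · intro hD T X _ u v huv
    by_contra hne
    push Not at hne
    exact huv (hD u v fun I hI w => hne I hI w)
  · intro h X Y f g hfg
    refine hC f g fun T hT k => ?_
    by_contra hne
    obtain ⟨I, hI, w, hw⟩ := h T Y hT _ _ hne
    exact hw (by simp [hfg I hI w])

theorem subobject_mk_eq_of_regularMono {C : ObjectProperty E} (hC : C.IsSeparating)
    {X X' X'' : E} (i' : X' ⟶ X) (i'' : X'' ⟶ X) [IsRegularMono i'] [IsRegularMono i'']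
    (h : ∀ (T : E), C T → ∀ (g : T ⟶ X),
      (∃ g' : T ⟶ X', g' ≫ i' = g) ↔ (∃ g'' : T ⟶ X'', g'' ≫ i'' = g)) :
    Subobject.mk i' = Subobject.mk i'' := by
  have key : ∀ {A B : E} (a : A ⟶ X) (b : B ⟶ X) [IsRegularMono b],
      (∀ (T : E), C T → ∀ (g : T ⟶ X), (∃ g' : T ⟶ A, g' ≫ a = g) → ∃ g'' : T ⟶ B, g'' ≫ b = g) →
      ∃ l : A ⟶ B, l ≫ b = a := by
    intro A B a b _ hab
    let r := IsRegularMono.getStruct b
    have : a ≫ r.left = a ≫ r.right := by
      refine hC _ _ fun T hT k => ?_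
      obtain ⟨g'', hg⟩ := hab T hT (k ≫ a) ⟨k, rfl⟩
      rw [← Category.assoc, ← hg, Category.assoc, r.w, ← Category.assoc, hg, Category.assoc]
    exact ⟨(RegularMono.lift' r a this).1, (RegularMono.lift' r a this).2⟩
  obtain ⟨l, hl⟩ := key i' i'' fun T hT g => (h T hT g).1
  obtain ⟨l', hl'⟩ := key i'' i' fun T hT g => (h T hT g).2
  refine Subobject.mk_eq_mk_of_comm _ _ ⟨l, l', ?_, ?_⟩ hl
  · rw [← cancel_mono i']; simp [hl, hl']
  · rw [← cancel_mono i'']; simp [hl, hl']

/-- Pairs of maps from a family equalized by a morphism. -/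
def eqSet {ι : Type v₁} (G : ι → E) {A Y : E} (e : A ⟶ Y) :
    Set (Σ t', (G t' ⟶ A) × (G t' ⟶ A)) :=
  {p | p.2.1 ≫ e = p.2.2 ≫ e}

lemma exists_desc_of_eqSet {ι : Type v₁} {G : ι → E} (hG : (ObjectProperty.ofObj G).IsSeparating)
    {A Y Y' : E} (e : A ⟶ Y) [EffectiveEpi e] (e' : A ⟶ Y') (h : eqSet G e ⊆ eqSet G e') :
    ∃ l : Y ⟶ Y', e ≫ l = e' := by
  refine ⟨EffectiveEpi.desc e e' fun {W} a b hab => ?_, EffectiveEpi.fac _ _ _⟩
  refine hG _ _ fun T hT k => ?_
  obtain ⟨t⟩ := hT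
  rw [← Category.assoc, ← Category.assoc]
  refine h (a := (⟨t, k ≫ a, k ≫ b⟩ : Σ t', (G t' ⟶ A) × (G t' ⟶ A))) ?_
  change (k ≫ a) ≫ e = (k ≫ b) ≫ e
  rw [Category.assoc, hab, ← Category.assoc]

theorem exists_small_coseparating {ι : Type v₁} (G : ι → E)
    (hG : (ObjectProperty.ofObj G).IsSeparating)
    [EnoughInjectives E] [∀ t, HasBinaryCoproduct (G t) (G t)]
    (hfac : ∀ (t : ι) (X : E) (f : G t ⨿ G t ⟶ X),
      ∃ (Y : E) (e : G t ⨿ G t ⟶ Y) (m : Y ⟶ X), EffectiveEpi e ∧ Mono m ∧ e ≫ m = f) :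
    ∃ (κ : Type v₁) (H : κ → E),
      (∀ k, Injective (H k)) ∧ (ObjectProperty.ofObj H).IsCoseparating := by
  let κ := Σ t : ι, {S : Set (Σ t', (G t' ⟶ G t ⨿ G t) × (G t' ⟶ G t ⨿ G t)) //
    ∃ (Y : E) (e : G t ⨿ G t ⟶ Y), EffectiveEpi e ∧ eqSet G e = S}
  choose Y e he hS using fun k : κ => k.2.2
  refine ⟨κ, fun k => Injective.under (Y k), fun k => inferInstance, ?_⟩
  refine (isCoseparating_iff hG).2 fun T X hT u v huv => ?_
  obtain ⟨t⟩ := hT
  obtain ⟨Y₀, e₀, m, he₀, hm, hfe⟩ := hfac t X (coprod.desc u v)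
  let k : κ := ⟨t, eqSet G e₀, Y₀, e₀, he₀, rfl⟩
  have : EffectiveEpi (e k) := he k
  obtain ⟨l, hl⟩ := exists_desc_of_eqSet hG (e k) e₀ (hS k).le
  obtain ⟨l', hl'⟩ := exists_desc_of_eqSet hG e₀ (e k) (hS k).ge
  let j : Y₀ ⟶ Injective.under (Y k) := l' ≫ Injective.ι (Y k)
  let w := Injective.factorThru j m
  refine ⟨_, ⟨k⟩, w, fun hw => huv ?_⟩
  have hu : u = coprod.inl ≫ e₀ ≫ m := by rw [hfe, coprod.inl_desc]
  have hv : v = coprod.inr ≫ e₀ ≫ m := by rw [hfe, coprod.inr_desc]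
  rw [hu, hv] at hw
  simp only [Category.assoc, w, Injective.comp_factorThru] at hw
  simp only [j, reassoc_of% hl'] at hw
  have h' : coprod.inl ≫ e k = coprod.inr ≫ e k :=
    (cancel_mono (Injective.ι (Y k))).1 (by simpa using hw)
  have h'' : coprod.inl ≫ e₀ = coprod.inr ≫ e₀ := by
    rw [← hl, reassoc_of% h']
  rw [hu, hv, reassoc_of% h'']

theorem generate_inter_family_mem (J : GrothendieckTopology E) (G : ObjectProperty E)
    (hG : ∀ X : E, Sieve.generate (fun Y => {_f : Y ⟶ X | G Y}) ∈ J X)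
    {X : E} (S : Sieve X) (hS : S ∈ J X) :
    Sieve.generate (fun Y => {f : Y ⟶ X | G Y ∧ S.arrows f}) ∈ J X := by
  refine J.transitive hS _ fun Y f hf => J.superset_covering ?_ (hG Y)
  rintro Z g ⟨W, a, b, hb, rfl⟩
  exact ⟨W, a, b ≫ f, ⟨hb, S.downward_closed hf b⟩, by simp⟩

theorem yoneda_section_injective_iff_minimal [HasCoequalizers E] [HasPullbacks E]
    (F : Eᵒᵖ ⥤ Type v₁) [PreservesLimitsOfShape WalkingParallelPair F]
    {X : E} (u : F.obj (op X)) :
    (∀ (Y : E) (v v' : Y ⟶ X), F.map v.op u = F.map v'.op u → v = v') ↔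
      ∀ (X' : E) (p : X ⟶ X') (u' : F.obj (op X')),
        EffectiveEpi p → F.map p.op u' = u → IsIso p := by
  constructor
  · intro h X' p u' _ hp
    have : Mono p := ⟨fun a b e => h _ a b (by
      rw [← hp, ← Functor.map_comp_apply, ← Functor.map_comp_apply, ← op_comp, ← op_comp, e])⟩
    have : IsRegularEpi p := isRegularEpi_of_regularEpi (regularEpiOfEffectiveEpi p)
    exact isIso_of_mono_of_strongEpi p
  · intro h Y v v' e
    let c := coequalizer.π v v'
    have hw : c.op ≫ v.op = c.op ≫ v'.op := by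
      rw [← op_comp, ← op_comp, coequalizer.condition]
    have hc : IsLimit (Fork.ofι c.op hw) :=
      Cofork.isColimitOfπEquivIsLimitOp c c (coequalizer.condition v v') hw rfl
        (coequalizerIsCoequalizer v v')
    have hF := isLimitForkMapOfIsLimit F _ hc
    obtain ⟨u', hu', -⟩ := (Types.type_equalizer_iff_unique (F.map c.op) _).1 ⟨hF⟩ u e
    have : IsRegularEpi c := inferInstance
    have : IsIso c := h _ c u' inferInstance hu'
    rw [← cancel_mono c]
    exact coequalizer.condition v v'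

theorem bot_mem_canonical_iff (X : E) :
    (⊥ : Sieve X) ∈ Sheaf.canonicalTopology E X ↔
      (Nonempty (IsInitial X) ∧ ∀ (Y : E) (f : Y ⟶ X), IsIso f) := by
  constructor
  · intro h
    have key : ∀ (Y : E) (f : Y ⟶ X) (Z : E), ∃! _ : Y ⟶ Z, True := by
      intro Y f Z
      have hY : (⊥ : Sieve Y) ∈ Sheaf.canonicalTopology E Y := by
        refine GrothendieckTopology.superset_covering _ ?_
          ((Sheaf.canonicalTopology E).pullback_stable f h)
        intro V g hg
        exact hg.elim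
      obtain ⟨t, -, ht⟩ := Sheaf.isSheaf_yoneda_obj Z _ hY (fun V g hg => hg.elim)
        (fun V₁ V₂ W g₁ g₂ f₁ f₂ h₁ => h₁.elim)
      exact ⟨t, trivial, fun t' _ => ht t' (fun V g hg => hg.elim)⟩
    refine ⟨⟨IsInitial.ofUniqueHom (fun Z => (key X (𝟙 X) Z).choose)
      fun Z m => (key X (𝟙 X) Z).unique trivial trivial⟩, fun Y f => ?_⟩
    exact ⟨(key X (𝟙 X) Y).choose, (key Y f Y).unique trivial trivial,
      (key X (𝟙 X) X).unique trivial trivial⟩
  · rintro ⟨⟨hI⟩, hstrict⟩
    refine Sheaf.mem_finestTopology_of_forall_isSheafFor ?_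
    rintro P ⟨Z, rfl⟩ Y f
    intro x _
    have := hstrict Y f
    refine ⟨(f ≫ hI.to Z : Y ⟶ Z), fun V g hg => hg.elim, fun t _ => ?_⟩
    rw [← cancel_epi (inv f)]
    exact hI.hom_ext _ _

end sep

end Groth.Agent.SGA45
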