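import Groth.Prelude.Def_SGA4a
import Mathlib.CategoryTheory.Sites.Canonical
import Mathlib.CategoryTheory.Sites.LocallyBijective
import Mathlib.CategoryTheory.Subfunctor.Image
import Mathlib.CategoryTheory.Limits.Types.Pullbacks
import Mathlib.CategoryTheory.Limits.Constructions.EpiMono

set_option autoImplicit false
universe u

open CategoryTheory Limits Opposite

namespace Groth.Agent.SGA45.LexReflective

variable {C : Type u} [SmallCategory C]

lemma mem_imageSieve_self {A B : Cᵒᵖ ⥤ Type u} (m : A ⟶ B) {X : C} (b : B.obj (op X)) {W : C}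
    (g : (Presheaf.imageSieve m b).functor.obj (op W)) :
    ∃ a : A.obj (op W), m.app (op W) a = B.map g.1.op b := g.2

/-- The lift of the image sieve to `A`, for `m` a monomorphism. -/
noncomputable def σ {A B : Cᵒᵖ ⥤ Type u} (m : A ⟶ B) [Mono m] {X : C} (b : B.obj (op X)) :
    (Presheaf.imageSieve m b).functor ⟶ A where
  app W := TypeCat.ofHom (fun g => (mem_imageSieve_self m b g).choose)
  naturality W W' k := by
    ext g
    apply (mono_iff_injective (m.app W')).1 inferInstance
    refine (mem_imageSieve_self m b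
      ((Presheaf.imageSieve m b).functor.map k g)).choose_spec.trans ?_
    refine Eq.trans ?_ (NatTrans.naturality_apply m k _).symm
    refine Eq.trans ?_ (congrArg (B.map k) (mem_imageSieve_self m b g).choose_spec.symm)
    exact ConcreteCategory.congr_hom (B.map_comp g.1.op k) b

lemma isPullback_imageSieve {A B : Cᵒᵖ ⥤ Type u} (m : A ⟶ B) [Mono m] {X : C}
    (b : B.obj (op X)) :
    IsPullback (σ m b) (Presheaf.imageSieve m b).functorInclusion m (yonedaEquiv.symm b) := by
  apply IsPullback.of_forall_isPullback_app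
  rintro ⟨W⟩
  rw [Types.isPullback_iff]
  refine ⟨?_, fun x y h => Subtype.ext h.2, ?_⟩
  · ext g
    exact (mem_imageSieve_self m b g).choose_spec
  · intro a g h
    refine ⟨⟨g, a, h⟩, ?_, rfl⟩
    exact (mono_iff_injective (m.app (op W))).1 inferInstance
      ((mem_imageSieve_self m b ⟨g, a, h⟩).choose_spec.trans h.symm)

variable (P : ObjectProperty (Cᵒᵖ ⥤ Type u)) [P.IsClosedUnderIsomorphisms] [Reflective P.ι]
  [PreservesFiniteLimits (reflector P.ι)]

local notation "L" => reflector P.ι

omit [P.IsClosedUnderIsomorphisms] in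
lemma isIso_imageSieve {A B : Cᵒᵖ ⥤ Type u} (m : A ⟶ B) [Mono m] [IsIso ((L).map m)] {X : C}
    (b : B.obj (op X)) : IsIso ((L).map (Presheaf.imageSieve m b).functorInclusion) :=
  ((isPullback_imageSieve m b).map (L)).isIso_snd_of_isIso

omit [P.IsClosedUnderIsomorphisms] in
lemma isIso_pullback {X : C} (S : Sieve X) [IsIso ((L).map S.functorInclusion)] {Y : C}
    (f : Y ⟶ X) : IsIso ((L).map (S.pullback f).functorInclusion) := by
  have e : Presheaf.imageSieve S.functorInclusion (U := Y) f = S.pullback f := by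
    ext W g
    exact ⟨fun ⟨t, ht⟩ => by
      have ht' : t.1 = g ≫ f := ht
      rw [Sieve.pullback_apply, ← ht']
      exact t.2,
      fun hg => ⟨⟨g ≫ f, hg⟩, rfl⟩⟩
  have : Mono S.functorInclusion := inferInstance
  exact e ▸ isIso_imageSieve P S.functorInclusion (X := Y) (f : (yoneda.obj X).obj (op Y))

omit [P.IsClosedUnderIsomorphisms] in
lemma precomp_bijective {A B : Cᵒᵖ ⥤ Type u} (m : A ⟶ B) [IsIso ((L).map m)]
    (F : Cᵒᵖ ⥤ Type u) (hF : P F) : Function.Bijective (fun g : B ⟶ F => m ≫ g) := by
  let adj := reflectorAdjunction P.ι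
  have h : (fun g : B ⟶ F => m ≫ g) = fun g =>
      adj.homEquiv A ⟨F, hF⟩ ((L).map m ≫ (adj.homEquiv B ⟨F, hF⟩).symm g) := by
    funext g
    rw [Adjunction.homEquiv_naturality_left, Equiv.apply_symm_apply]
  rw [h]
  exact (adj.homEquiv A ⟨F, hF⟩).bijective.comp
    ((Iso.homFromEquiv (asIso ((L).map m))).symm.bijective.comp
      (adj.homEquiv B ⟨F, hF⟩).symm.bijective)

omit [P.IsClosedUnderIsomorphisms] in
lemma mem_iff {X : C} (S : Sieve X) :
    S ∈ Sheaf.finestTopology {F | P F} X ↔ IsIso ((L).map S.functorInclusion) := by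
  constructor
  · intro hS
    let adj := reflectorAdjunction P.ι
    have key : ∀ Q : P.FullSubcategory, Function.Bijective
        (fun g : (L).obj (yoneda.obj X) ⟶ Q => (L).map S.functorInclusion ≫ g) := by
      intro Q
      have hsf : Presieve.IsSheafFor Q.obj (S : Presieve X) :=
        Sheaf.sheaf_for_finestTopology _ (show Q.obj ∈ {F | P F} from Q.property) S hS
      have hb : Function.Bijective (fun g : yoneda.obj X ⟶ Q.obj => S.functorInclusion ≫ g) := by
        rw [Function.bijective_iff_existsUnique]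
        exact Presieve.isSheafFor_iff_yonedaSheafCondition.1 hsf
      have h : (fun g : (L).obj (yoneda.obj X) ⟶ Q => (L).map S.functorInclusion ≫ g) =
          fun g => (adj.homEquiv _ Q).symm (S.functorInclusion ≫ adj.homEquiv _ Q g) := by
        funext g
        rw [Adjunction.homEquiv_naturality_left_symm, Equiv.symm_apply_apply]
      rw [h]
      exact (adj.homEquiv _ Q).symm.bijective.comp (hb.comp (adj.homEquiv _ Q).bijective)
    obtain ⟨r, hr⟩ := (key _).2 (𝟙 _)
    exact ⟨r, hr, (key _).1 (by simp [← Category.assoc, hr])⟩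
  · intro hS
    refine Sheaf.mem_finestTopology_of_forall_isSheafFor fun F hF Y f => ?_
    rw [Presieve.isSheafFor_iff_yonedaSheafCondition]
    have := isIso_pullback P S f
    exact (Function.bijective_iff_existsUnique _).1 (precomp_bijective P _ F hF)

abbrev J0 : GrothendieckTopology C := Sheaf.finestTopology {F : Cᵒᵖ ⥤ Type u | P F}

omit [P.IsClosedUnderIsomorphisms] in
lemma isLocallySurjective_of_mono {A B : Cᵒᵖ ⥤ Type u} (m : A ⟶ B) [Mono m]
    [IsIso ((L).map m)] : Presheaf.IsLocallySurjective (J0 P) m :=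
  ⟨fun b => (mem_iff P _).2 (isIso_imageSieve P m b)⟩

omit [P.IsClosedUnderIsomorphisms] in
lemma W_of_isIso {F G : Cᵒᵖ ⥤ Type u} (η : F ⟶ G) [IsIso ((L).map η)] : (J0 P).W η := by
  rw [GrothendieckTopology.W_iff_isLocallyBijective]
  constructor
  · refine ⟨fun {X} x y h => ?_⟩
    let Δ : F ⟶ pullback η η := pullback.diagonal η
    have : IsIso ((L).map Δ) := by
      have hp := (IsPullback.of_hasPullback η η).map (L)
      have : IsIso ((L).map (pullback.fst η η)) := hp.isIso_fst_of_isIso
      have e : (L).map Δ ≫ (L).map (pullback.fst η η) = 𝟙 _ := by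
        rw [← Functor.map_comp, pullback.diagonal_fst, CategoryTheory.Functor.map_id]
      exact IsIso.of_isIso_fac_right e
    have hΔ := isLocallySurjective_of_mono P Δ
    obtain ⟨z, hz1, hz2⟩ := Types.exists_of_isPullback
      ((IsPullback.of_hasPullback η η).map ((evaluation Cᵒᵖ (Type u)).obj X)) x y h
    refine (J0 P).superset_covering ?_ (hΔ.imageSieve_mem z)
    rintro W g ⟨t, ht⟩
    show F.map g.op x = F.map g.op y
    have h1 := congrArg ((pullback.fst η η).app (op W)) ht
    have h2 := congrArg ((pullback.snd η η).app (op W)) ht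
    erw [NatTrans.naturality_apply] at h1 h2
    have e1 := ConcreteCategory.congr_hom (NatTrans.congr_app (pullback.diagonal_fst η) (op W)) t
    have e2 := ConcreteCategory.congr_hom (NatTrans.congr_app (pullback.diagonal_snd η) (op W)) t
    exact ((congrArg (F.map g.op) hz1).symm.trans (h1.symm.trans (e1.trans e2.symm))).trans
      (h2.trans (congrArg (F.map g.op) hz2))
  · let i := (Subfunctor.range η).ι
    have hfac : (L).map (Subfunctor.toRange η) ≫ (L).map i = (L).map η := by
      rw [← Functor.map_comp, Subfunctor.toRange_ι]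
    have : IsSplitEpi ((L).map i) := IsSplitEpi.mk' ⟨inv ((L).map η) ≫ (L).map (Subfunctor.toRange η),
      by rw [Category.assoc, hfac, IsIso.inv_hom_id]⟩
    have : Mono ((L).map i) := inferInstance
    have : IsIso ((L).map i) := isIso_of_mono_of_isSplitEpi _
    have hi := isLocallySurjective_of_mono P i
    rw [← Subfunctor.toRange_ι η]
    have hr : Presheaf.IsLocallySurjective (J0 P) (Subfunctor.toRange η) :=
      Presheaf.isLocallySurjective_of_surjective _ _ fun X ⟨_, t, rfl⟩ => ⟨t, rfl⟩
    exact Presheaf.isLocallySurjective_comp (J0 P) _ _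

lemma sheaf_iff (F : Cᵒᵖ ⥤ Type u) : P F ↔ Presieve.IsSheaf (J0 P) F := by
  refine ⟨fun hF => Sheaf.sheaf_for_finestTopology _ hF, fun hF => ?_⟩
  let η := (reflectorAdjunction P.ι).unit.app F
  have hG : Presieve.IsSheaf (J0 P) (P.ι.obj ((L).obj F)) :=
    Sheaf.sheaf_for_finestTopology _ ((L).obj F).property
  have : IsIso η := by
    have : IsIso ((L).map η) := inferInstance
    have hW := W_of_isIso P η
    rw [← isSheaf_iff_isSheaf_of_type] at hF hG
    have := ((J0 P).W_sheafToPresheaf_map_iff_isIso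
      (F₁ := ⟨F, hF⟩) (F₂ := ⟨_, hG⟩) ⟨η⟩).1 hW
    exact (inferInstance : IsIso ((sheafToPresheaf (J0 P) (Type u)).map
      (⟨η⟩ : (⟨F, hF⟩ : Sheaf (J0 P) (Type u)) ⟶ ⟨_, hG⟩)))
  exact P.prop_of_iso (asIso η).symm ((L).obj F).property

theorem main :
    ∃ J : GrothendieckTopology C,
      (∀ (X : C) (S : Sieve X), S ∈ J X ↔ IsIso ((reflector P.ι).map S.functorInclusion)) ∧
      ∀ F : Cᵒᵖ ⥤ Type u, P F ↔ Presieve.IsSheaf J F :=
  ⟨_, fun _ S => mem_iff P S, sheaf_iff P⟩

end Groth.Agent.SGA45.LexReflective
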