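import Groth.Prelude.Def_SGA4a
import Mathlib.CategoryTheory.Limits.Types.Colimits
import Mathlib.CategoryTheory.Limits.Types.Pullbacks
import Mathlib.CategoryTheory.Limits.Indization.IndObject

set_option autoImplicit false
universe u

open CategoryTheory Limits Opposite

namespace Groth.Agent.SGA45.LanCartesian

variable {C : Type u} [SmallCategory C] {C' : Type u} [SmallCategory C'] (u : C ⥤ C')
  (H : Cᵒᵖ ⥤ Type u) (X : C)

abbrev W := (Functor.whiskeringLeft Cᵒᵖ C'ᵒᵖ (Type u)).obj u.op

/-- The class of `(Y, g, h)` in the value of the left Kan extension. -/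
noncomputable def cls {Z : C'} {Y : C} (g : Z ⟶ u.obj Y) (h : H.obj (op Y)) :
    (u.op.lan.obj H).obj (op Z) :=
  (u.op.lan.obj H).map g.op ((u.op.lanUnit.app H).app (op Y) h)

lemma exists_rep {Z : C'} (a : (u.op.lan.obj H).obj (op Z)) :
    ∃ (Y : C) (g : Z ⟶ u.obj Y) (h : H.obj (op Y)), a = cls u H g h := by
  obtain ⟨j, h, hj⟩ := Types.jointly_surjective_of_isColimit
    (Functor.isPointwiseLeftKanExtensionOfIsLeftKanExtension
      (u.op.lan.obj H) (u.op.lanUnit.app H) (op Z)) a
  exact ⟨j.left.unop, j.hom.unop, h, hj.symm⟩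

variable [u.Faithful] (hu : ∀ Y : C, (Over.post (X := Y) u).Full)

open Classical in
/-- The partial retraction of the unit. -/
noncomputable def ψfun {Y : C} (g : u.obj X ⟶ u.obj Y) (h : H.obj (op Y)) : Option (H.obj (op X)) :=
  if e : ∃ f : X ⟶ Y, u.map f = g then some (H.map e.choose.op h) else none

lemma ψfun_map {Y : C} (f : X ⟶ Y) (h : H.obj (op Y)) :
    ψfun u H X (u.map f) h = some (H.map f.op h) := by
  have e : ∃ f' : X ⟶ Y, u.map f' = u.map f := ⟨f, rfl⟩
  rw [ψfun, dif_pos e, u.map_injective e.choose_spec]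

include hu in
lemma ψfun_naturality {Y Y' : C} (k : Y' ⟶ Y) (g' : u.obj X ⟶ u.obj Y') (h : H.obj (op Y)) :
    ψfun u H X g' (H.map k.op h) = ψfun u H X (g' ≫ u.map k) h := by
  by_cases e : ∃ f : X ⟶ Y, u.map f = g' ≫ u.map k
  · obtain ⟨f, hf⟩ := e
    obtain ⟨φ, hφ⟩ := (hu Y).map_surjective (X := Over.mk f) (Y := Over.mk k)
      (Over.homMk g' hf.symm)
    have h1 : g' = u.map φ.left := (congrArg CommaMorphism.left hφ).symm
    have h2 : φ.left ≫ k = f := Over.w φ
    subst h1
    rw [← u.map_comp, h2]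
    rw [ψfun_map, ψfun_map]
    refine Eq.trans ?_ (congrArg (fun t => some (H.map (Quiver.Hom.op t) h)) h2)
    simp
  · have e' : ¬ ∃ f : X ⟶ Y', u.map f = g' := by
      rintro ⟨f, rfl⟩
      exact e ⟨f ≫ k, by simp⟩
    rw [ψfun, dif_neg e', ψfun, dif_neg e]

include hu in
lemma exists_retraction : ∃ ψ : (u.op.lan.obj H).obj (op (u.obj X)) → Option (H.obj (op X)),
    ∀ (Y : C) (g : u.obj X ⟶ u.obj Y) (h : H.obj (op Y)),
      ψ (cls u H g h) = ψfun u H X g h := by
  let hc := Functor.isPointwiseLeftKanExtensionOfIsLeftKanExtension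
      (u.op.lan.obj H) (u.op.lanUnit.app H) (op (u.obj X))
  let s : Cocone (CostructuredArrow.proj u.op (op (u.obj X)) ⋙ H) :=
    { pt := Option (H.obj (op X))
      ι :=
        { app := fun j => TypeCat.ofHom (fun h => ψfun u H X (Y := j.left.unop) j.hom.unop h)
          naturality := fun j j' φ => by
            ext h
            refine (ψfun_naturality u H X hu φ.left.unop j'.hom.unop h).trans ?_
            exact congrArg (fun g => ψfun u H X g h)
              (congrArg Quiver.Hom.unop (CostructuredArrow.w φ)) } }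
  exact ⟨hc.desc s, fun Y g h =>
    ConcreteCategory.congr_hom (hc.fac s (CostructuredArrow.mk (Y := op Y) (Quiver.Hom.op g))) h⟩

lemma unit_eq_cls (h : H.obj (op X)) :
    ((u.op.lanAdjunction (Type u)).unit.app H).app (op X) h = cls u H (𝟙 (u.obj X)) h := by
  simp [cls, Functor.lanAdjunction_unit]

include hu in
lemma unit_injective :
    Function.Injective (((u.op.lanAdjunction (Type u)).unit.app H).app (op X)) := by
  intro a b hab
  obtain ⟨ψ, hψ⟩ := exists_retraction u H X hu
  rw [unit_eq_cls, unit_eq_cls] at hab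
  have h1 := congrArg ψ hab
  rw [hψ, hψ, ← u.map_id, ψfun_map, ψfun_map] at h1
  simpa using h1

include hu in
lemma main :
    (u.op.lan : (Cᵒᵖ ⥤ Type u) ⥤ (C'ᵒᵖ ⥤ Type u)).Faithful ∧
    (∀ H : Cᵒᵖ ⥤ Type u, Mono ((u.op.lanAdjunction (Type u)).unit.app H)) ∧
    ∀ (H K : Cᵒᵖ ⥤ Type u) (α : H ⟶ K),
      IsPullback ((u.op.lanAdjunction (Type u)).unit.app H) α
        (((Functor.whiskeringLeft Cᵒᵖ C'ᵒᵖ (Type u)).obj u.op).map (u.op.lan.map α))
        ((u.op.lanAdjunction (Type u)).unit.app K) := by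
  have hm : ∀ H : Cᵒᵖ ⥤ Type u, Mono ((u.op.lanAdjunction (Type u)).unit.app H) := fun H => by
    have : ∀ Z, Mono (((u.op.lanAdjunction (Type u)).unit.app H).app Z) := fun Z =>
      (mono_iff_injective _).2 (unit_injective u H Z.unop hu)
    exact NatTrans.mono_of_mono_app _
  refine ⟨(u.op.lanAdjunction (Type u)).faithful_L_of_mono_unit_app, hm, fun H K α => ?_⟩
  apply IsPullback.of_forall_isPullback_app
  rintro ⟨X⟩
  rw [Types.isPullback_iff]
  refine ⟨?_, fun x y h => unit_injective u H X hu h.1, ?_⟩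
  · exact congrArg (fun t : H ⟶ _ => t.app (op X))
      ((u.op.lanAdjunction (Type u)).unit.naturality α).symm
  intro a k hak
  obtain ⟨Y, g, h, rfl⟩ := exists_rep u H a
  obtain ⟨ψ, hψ⟩ := exists_retraction u K X hu
  have hnat : (u.op.lan.map α).app (op (u.obj X)) (cls u H g h) = cls u K g (α.app (op Y) h) := by
    unfold cls
    erw [NatTrans.naturality_apply (u.op.lan.map α) g.op]
    congr 1
    exact (ConcreteCategory.congr_hom
      (congrArg (fun t : H ⟶ _ => t.app (op Y)) (u.op.lanUnit.naturality α)) h).symm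
  have h1 : cls u K g (α.app (op Y) h) = cls u K (𝟙 (u.obj X)) k := by
    rw [← hnat, ← unit_eq_cls]
    exact hak
  have h2 := congrArg ψ h1
  rw [hψ, hψ, ← u.map_id, ψfun_map] at h2
  by_cases e : ∃ f : X ⟶ Y, u.map f = g
  · obtain ⟨f, rfl⟩ := e
    rw [ψfun_map] at h2
    simp only [Option.some.injEq, op_id, K.map_id] at h2
    refine ⟨H.map f.op h, ?_, ?_⟩
    · exact NatTrans.naturality_apply ((u.op.lanAdjunction (Type u)).unit.app H) f.op h
        |>.trans (by rw [Functor.lanAdjunction_unit])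
    · exact (NatTrans.naturality_apply α f.op h).trans h2
  · rw [ψfun, dif_neg e] at h2
    simp at h2

end Groth.Agent.SGA45.LanCartesian
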