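import Groth.Prelude.Def_SGA4a
import Mathlib.CategoryTheory.Limits.Types.Filtered
import Mathlib.CategoryTheory.Limits.Indization.IndObject
import Mathlib.CategoryTheory.Adjunction.FullyFaithful
import Mathlib.CategoryTheory.Limits.Presheaf

set_option autoImplicit false
universe u

open CategoryTheory Limits Opposite

namespace Groth.Agent.SGA45.LanInd

variable {C : Type u} [SmallCategory C] {C' : Type u} [SmallCategory C'] (u : C ⥤ C')

noncomputable abbrev L : (Cᵒᵖ ⥤ Type u) ⥤ (C'ᵒᵖ ⥤ Type u) := u.op.lan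

abbrev W : (C'ᵒᵖ ⥤ Type u) ⥤ (Cᵒᵖ ⥤ Type u) :=
  (Functor.whiskeringLeft Cᵒᵖ C'ᵒᵖ (Type u)).obj u.op

/-- The canonical map `y Z ⟶ u^* y (u Z)`. -/
def t (Z : C) : yoneda.obj Z ⟶ (W u).obj (yoneda.obj (u.obj Z)) where
  app _ := TypeCat.ofHom (fun f => u.map f)
  naturality _ _ g := by ext f; exact u.map_comp g.unop f

lemma unit_yoneda_injective [u.Faithful] (Z X : C) :
    Function.Injective (((u.op.lanAdjunction (Type u)).unit.app (yoneda.obj Z)).app (op X)) := by
  intro a b hab
  let adj := u.op.lanAdjunction (Type u)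
  have h : adj.unit.app (yoneda.obj Z) ≫ (W u).map ((adj.homEquiv _ _).symm (t u Z)) = t u Z := by
    exact (adj.homEquiv_unit (f := (adj.homEquiv _ _).symm (t u Z))).symm.trans (Equiv.apply_symm_apply _ _)
  refine u.map_injective ?_
  have ha := ConcreteCategory.congr_hom (NatTrans.congr_app h (op X)) a
  have hb := ConcreteCategory.congr_hom (NatTrans.congr_app h (op X)) b
  exact ha.symm.trans ((congrArg
    (((W u).map ((adj.homEquiv _ _).symm (t u Z))).app (op X)) hab).trans hb)

lemma unit_indObject_injective [u.Faithful] {G : Cᵒᵖ ⥤ Type u} (hG : IsIndObject G) (X : C) :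
    Function.Injective (((u.op.lanAdjunction (Type u)).unit.app G).app (op X)) := by
  obtain ⟨P⟩ := hG.nonempty_presentation
  let η := (u.op.lanAdjunction (Type u)).unit
  let ev := (evaluation Cᵒᵖ (Type u)).obj (op X)
  have : (L u).IsLeftAdjoint := (u.op.lanAdjunction (Type u)).isLeftAdjoint
  let hd := isColimitOfPreserves ev P.isColimit
  let hdc := isColimitOfPreserves (L u ⋙ W u ⋙ ev) P.isColimit
  intro a b hab
  obtain ⟨i, a', ha⟩ := Types.jointly_surjective_of_isColimit hd a
  obtain ⟨j, b', hb⟩ := Types.jointly_surjective_of_isColimit hd b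
  have hna := ConcreteCategory.congr_hom (NatTrans.congr_app (η.naturality (P.ι.app i)) (op X)) a'
  have hnb := ConcreteCategory.congr_hom (NatTrans.congr_app (η.naturality (P.ι.app j)) (op X)) b'
  have e : ((L u ⋙ W u ⋙ ev).mapCocone (Cocone.mk G P.ι)).ι.app i
        ((η.app ((P.F ⋙ yoneda).obj i)).app (op X) a') =
      ((L u ⋙ W u ⋙ ev).mapCocone (Cocone.mk G P.ι)).ι.app j
        ((η.app ((P.F ⋙ yoneda).obj j)).app (op X) b') := by
    refine hna.symm.trans (Eq.trans ?_ hnb)
    exact ((congrArg ((η.app G).app (op X)) ha).trans hab).trans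
      (congrArg ((η.app G).app (op X)) hb).symm
  obtain ⟨k, f, g, e'⟩ := (Types.FilteredColimit.isColimit_eq_iff _ hdc).1 e
  have hfa := ConcreteCategory.congr_hom
    (NatTrans.congr_app (η.naturality ((P.F ⋙ yoneda).map f)) (op X)) a'
  have hgb := ConcreteCategory.congr_hom
    (NatTrans.congr_app (η.naturality ((P.F ⋙ yoneda).map g)) (op X)) b'
  have e'' := unit_yoneda_injective u (P.F.obj k) X (hfa.trans (e'.trans hgb.symm))
  have h1 := congrArg ((ev.mapCocone (Cocone.mk G P.ι)).ι.app k) e''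
  have h2 := ConcreteCategory.congr_hom ((ev.mapCocone (Cocone.mk G P.ι)).w f) a'
  have h3 := ConcreteCategory.congr_hom ((ev.mapCocone (Cocone.mk G P.ι)).w g) b'
  exact ha.symm.trans (h2.symm.trans (h1.trans (h3.trans hb)))

lemma map_injective [u.Faithful] (F G : Cᵒᵖ ⥤ Type u) (hG : IsIndObject G) :
    Function.Injective (fun φ : F ⟶ G => (L u).map φ) := by
  intro φ φ' h
  let η := (u.op.lanAdjunction (Type u)).unit
  have h' : φ ≫ η.app G = φ' ≫ η.app G := by
    have e1 := η.naturality φ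
    have e2 := η.naturality φ'
    simp only [Functor.id_map, Functor.comp_map] at e1 e2
    rw [e1, e2]
    exact congrArg (fun x => η.app F ≫ (W u).map x) h
  ext ⟨X⟩ x
  exact unit_indObject_injective u hG X (ConcreteCategory.congr_hom (NatTrans.congr_app h' (op X)) x)

lemma isInd_uy (X : C) : IsIndObject (uliftYoneda.{u}.obj X) :=
  IsIndObject.map (uliftYonedaIsoYoneda.inv.app X) (isIndObject_yoneda X)

lemma faithful_iff :
    u.Faithful ↔ ∀ (F G : Cᵒᵖ ⥤ Type u), IsIndObject F → IsIndObject G →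
      Function.Injective (fun φ : F ⟶ G => (L u).map φ) := by
  refine ⟨fun _ F G _ hG => map_injective u F G hG, fun h => ⟨fun {X Y} f g hfg => ?_⟩⟩
  let e := Presheaf.compULiftYonedaIsoULiftYonedaCompLan.{u} u
  refine uliftYoneda.{u}.map_injective (h _ _ (isInd_uy X) (isInd_uy Y) ?_)
  show (uliftYoneda ⋙ L u).map f = (uliftYoneda ⋙ L u).map g
  rw [← cancel_epi (e.hom.app X), ← e.hom.naturality, ← e.hom.naturality]
  simp [hfg]

lemma fullyFaithful_iff :
    (u.Full ∧ u.Faithful) ↔ ∀ (F G : Cᵒᵖ ⥤ Type u), IsIndObject F → IsIndObject G →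
      Function.Bijective (fun φ : F ⟶ G => (L u).map φ) := by
  constructor
  · rintro ⟨_, _⟩ F G _ _
    have hI : IsIso (u.op.lanAdjunction (Type u)).unit := by infer_instance
    have := (u.op.lanAdjunction (Type u)).fullyFaithfulLOfIsIsoUnit
    exact this.map_bijective _ _
  · intro h
    have hf : u.Faithful := (faithful_iff u).2 (fun F G hF hG => (h F G hF hG).1)
    refine ⟨⟨fun {X Y} g => ?_⟩, hf⟩
    let e := Presheaf.compULiftYonedaIsoULiftYonedaCompLan.{u} u
    obtain ⟨φ, hφ⟩ := (h _ _ (isInd_uy X) (isInd_uy Y)).2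
      (e.inv.app X ≫ uliftYoneda.{u}.map g ≫ e.hom.app Y)
    obtain ⟨f, rfl⟩ := uliftYoneda.{u}.map_surjective φ
    refine ⟨f, uliftYoneda.{u}.map_injective ?_⟩
    rw [← cancel_mono (e.hom.app Y)]
    refine (e.hom.naturality f).trans ?_
    show e.hom.app X ≫ (L u).map (uliftYoneda.map f) = _
    simp only at hφ
    rw [hφ]
    simp

end Groth.Agent.SGA45.LanInd
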