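import Groth.Agent.SGA45.Cofan
import Groth.Prelude.Def_SGA4a
import Mathlib.CategoryTheory.Sites.Subcanonical

open CategoryTheory CategoryTheory.Limits Opposite

universe u v

namespace Groth.Agent.SGA45

section sheaffor

variable {C : Type u} [Category.{v} C] {J : GrothendieckTopology C} [J.Subcanonical]

/-- Descent of morphisms along a covering family for a subcanonical topology. -/
lemma existsUnique_desc {X : C} {ι : Type*} {Y : ι → C} {s : ∀ i, Y i ⟶ X}
    (h : Sieve.ofArrows Y s ∈ J X) {Z : C} (k : ∀ i, Y i ⟶ Z)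
    (hk : ∀ i j (W : C) (a : W ⟶ Y i) (b : W ⟶ Y j), a ≫ s i = b ≫ s j → a ≫ k i = b ≫ k j) :
    ∃! d : X ⟶ Z, ∀ i, s i ≫ d = k i := by
  have hsf := GrothendieckTopology.Subcanonical.isSheaf_of_isRepresentable (J := J) (yoneda.obj Z) _ h
  rw [Sieve.ofArrows, ← Presieve.isSheafFor_iff_generate, Presieve.isSheafFor_arrows_iff] at hsf
  exact hsf k fun i j W a b e => hk i j W a b e

lemma hom_ext_of_cover {W Z : C} {S : Sieve W} (hS : S ∈ J W) {a b : W ⟶ Z}
    (h : ∀ ⦃V : C⦄ (g : V ⟶ W), S g → g ≫ a = g ≫ b) : a = b :=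
  ((GrothendieckTopology.Subcanonical.isSheaf_of_isRepresentable (J := J) (yoneda.obj Z) _
    hS).isSeparatedFor).ext h

lemma isInitial_of_bot_mem {P : C} (h : (⊥ : Sieve P) ∈ J P) : Nonempty (IsInitial P) := by
  have key : ∀ Z : C, ∃ _ : P ⟶ Z, True := fun Z => by
    obtain ⟨t, -, -⟩ := GrothendieckTopology.Subcanonical.isSheaf_of_isRepresentable (J := J)
      (yoneda.obj Z) _ h (fun V g hg => hg.elim) (fun V₁ V₂ W g₁ g₂ f₁ f₂ h₁ => h₁.elim)
    exact ⟨t, trivial⟩
  exact ⟨IsInitial.ofUniqueHom (fun Z => (key Z).choose)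
    fun Z m => hom_ext_of_cover h fun V g hg => hg.elim⟩

end sheaffor

variable {C : Type u} [SmallCategory C]

lemma nonempty_isColimit_cofan_of_crit {J : GrothendieckTopology C} [J.Subcanonical] {X : C}
    {ι : Type u} {Y : ι → C} {s : ∀ i, Y i ⟶ X} (hcov : Sieve.ofArrows Y s ∈ J X)
    (hmono : ∀ i, Mono (s i))
    (hdisj : ∀ (i j : ι), i ≠ j → ∀ (W : C) (a : W ⟶ Y i) (b : W ⟶ Y j),
      a ≫ s i = b ≫ s j → (⊥ : Sieve W) ∈ J W) :
    Nonempty (IsColimit (Cofan.mk X s)) := by
  have key : ∀ t : Cofan Y, ∃! d : X ⟶ t.pt, ∀ i, s i ≫ d = t.inj i := fun t =>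
    existsUnique_desc hcov t.inj fun i j W a b e => by
      by_cases hij : i = j
      · subst hij
        rw [(cancel_mono (s i)).1 e]
      · exact hom_ext_of_cover (hdisj i j hij W a b e) fun V g hg => hg.elim
  exact ⟨Cofan.IsColimit.mk _ (fun t => (key t).choose) (fun t i => (key t).choose_spec.1 i)
    (fun t m hm => (key t).choose_spec.2 m hm)⟩

variable {X : C} {ι : Type u} (Y : ι → C) (s : ∀ i, Y i ⟶ X)
  [∀ (i : ι) (Z : C) (g : Z ⟶ X), HasPullback (s i) g]

lemma pullback_ofArrows_eq {W : C} (f : W ⟶ X) :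
    (Sieve.ofArrows Y s).pullback f =
      Sieve.ofArrows (fun i => pullback (s i) f) (fun i => pullback.snd (s i) f) := by
  ext V g
  rw [Sieve.pullback_apply, Sieve.mem_ofArrows_iff, Sieve.mem_ofArrows_iff]
  constructor
  · rintro ⟨i, a, e⟩
    exact ⟨i, pullback.lift a g e.symm, (pullback.lift_snd _ _ _).symm⟩
  · rintro ⟨i, a, rfl⟩
    exact ⟨i, a ≫ pullback.fst _ _, by simp [pullback.condition]⟩

theorem isColimit_cofan_canonical_iff :
    Nonempty (IsColimit (Cofan.mk
        ((presheafToSheaf (Sheaf.canonicalTopology C) (Type u)).obj (yoneda.obj X))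
        (fun i => (presheafToSheaf (Sheaf.canonicalTopology C) (Type u)).map (yoneda.map (s i))))) ↔
      (Nonempty (IsColimit (Cofan.mk X s)) ∧ CoproductDisjoint Y ∧
        IsUniversalColimit (Cofan.mk X s)) := by
  rw [isColimit_cofan_iff]
  constructor
  · rintro ⟨hcov, h₂, h₃⟩
    have hmono : ∀ i, Mono (s i) := fun i => ⟨fun {W} a b e => by
      obtain ⟨S, hS, hSe⟩ := h₂ i W a b e
      exact hom_ext_of_cover hS hSe⟩
    obtain ⟨hc⟩ := nonempty_isColimit_cofan_of_crit hcov hmono h₃
    have : ∀ i, Mono ((Cofan.mk X s).inj i) := hmono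
    refine ⟨⟨hc⟩, CoproductDisjoint.of_cofan hc
      (fun {i j} _ => pullback.cone (s i) (s j)) (fun {i j} _ => pullback.isLimit (s i) (s j))
      (fun {i j} hij => (isInitial_of_bot_mem
        (h₃ i j hij _ (pullback.fst (s i) (s j)) (pullback.snd (s i) (s j))
          pullback.condition)).some), ?_⟩
    intro F' c' α f hα _ hpb
    let Y' : ι → C := fun i => F'.obj ⟨i⟩
    let s' : ∀ i, Y' i ⟶ c'.pt := fun i => c'.ι.app ⟨i⟩
    have hp : ∀ i, IsPullback (s' i) (α.app ⟨i⟩) f (s i) := fun i => hpb ⟨i⟩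
    have hcov' : Sieve.ofArrows Y' s' ∈ Sheaf.canonicalTopology C c'.pt := by
      refine GrothendieckTopology.superset_covering _ ?_
        ((Sheaf.canonicalTopology C).pullback_stable f hcov)
      intro V g hg
      obtain ⟨i, a, e⟩ := (Sieve.mem_ofArrows_iff ..).1 hg
      exact (Sieve.mem_ofArrows_iff ..).2 ⟨i, (hp i).lift g a e, ((hp i).lift_fst g a e).symm⟩
    have hmono' : ∀ i, Mono (s' i) := fun i => ⟨fun {W} a b e => by
      refine (hp i).hom_ext e ((cancel_mono (s i)).1 ?_)
      rw [Category.assoc, Category.assoc, ← (hp i).w, ← Category.assoc, e, Category.assoc]⟩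
    obtain ⟨h'⟩ := nonempty_isColimit_cofan_of_crit hcov' hmono' fun i j hij W a b e =>
      h₃ i j hij W (a ≫ α.app ⟨i⟩) (b ≫ α.app ⟨j⟩) (by
        rw [Category.assoc, Category.assoc, ← (hp i).w, ← (hp j).w, ← Category.assoc, e,
          Category.assoc])
    exact ⟨{ desc := fun t => h'.desc (Cofan.mk t.pt fun i => t.ι.app ⟨i⟩)
             fac := fun t ⟨i⟩ => h'.fac (Cofan.mk t.pt fun i => t.ι.app ⟨i⟩) ⟨i⟩
             uniq := fun t m hm => h'.uniq (Cofan.mk t.pt fun i => t.ι.app ⟨i⟩) m
               fun ⟨i⟩ => hm ⟨i⟩ }⟩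
  · rintro ⟨⟨hc⟩, hd, hu⟩
    have hmono : ∀ i, Mono (s i) := fun i => CoproductDisjoint.mono_inj (X := Y) hc i
    have bc : ∀ {W : C} (f : W ⟶ X),
        Nonempty (IsColimit (Cofan.mk W (fun i => pullback.snd (s i) f))) := by
      intro W f
      refine hu (Cofan.mk W (fun i => pullback.snd (s i) f))
        (Discrete.natTrans fun i => pullback.fst (s i.as) f) f ?_
        (NatTrans.Equifibered.of_discrete _) fun i => (IsPullback.of_hasPullback (s i.as) f).flip
      ext ⟨i⟩
      exact pullback.condition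
    have hcov : Sieve.ofArrows Y s ∈ Sheaf.canonicalTopology C X := by
      refine Sheaf.mem_finestTopology_of_forall_isSheafFor ?_
      rintro P ⟨Z, rfl⟩ W f
      rw [pullback_ofArrows_eq, Sieve.ofArrows, ← Presieve.isSheafFor_iff_generate,
        Presieve.isSheafFor_arrows_iff]
      intro x _
      obtain ⟨h⟩ := bc f
      refine ⟨h.desc (Cofan.mk Z x), fun i => h.fac (Cofan.mk Z x) ⟨i⟩, fun t ht => ?_⟩
      exact h.uniq (Cofan.mk Z x) t fun i => ht i.as
    refine ⟨hcov, fun i W a b e => ⟨⊤, GrothendieckTopology.top_mem _ W,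
      fun V g _ => by rw [(cancel_mono (s i)).1 e]⟩, fun i j hij W a b e => ?_⟩
    have hP : Nonempty (IsInitial (pullback (s i) (s j))) :=
      CoproductDisjoint.nonempty_isInitial_of_ne (X := Y) hc hij (pullback.cone (s i) (s j))
        (pullback.isLimit (s i) (s j))
    obtain ⟨hP⟩ := hP
    refine Sheaf.mem_finestTopology_of_forall_isSheafFor ?_
    rintro P ⟨Z, rfl⟩ V g
    intro x _
    classical
    have hsub : ∀ p q : V ⟶ Z, p = q := by
      intro p q
      obtain ⟨h⟩ := bc (g ≫ a ≫ s i)
      let t : Cofan (fun k => pullback (s k) (g ≫ a ≫ s i)) := Cofan.mk Z fun k =>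
        pullback.snd (s k) (g ≫ a ≫ s i) ≫ (if k = i then p else q)
      let li := pullback.lift (g ≫ a) (𝟙 V) (by simp) ≫ pullback.snd (s i) (g ≫ a ≫ s i)
      have h1 := h.fac t ⟨i⟩
      have h2 := h.fac t ⟨j⟩
      have e1 := congrArg (pullback.lift (f := s i) (g := g ≫ a ≫ s i) (g ≫ a) (𝟙 V) (by simp) ≫ ·) h1
      have e2 := congrArg (pullback.lift (f := s j) (g := g ≫ a ≫ s i) (g ≫ b) (𝟙 V) (by simp [e]) ≫ ·) h2
      simp [t, pullback.lift_snd_assoc] at e1 e2
      rw [if_neg (Ne.symm hij)] at e2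
      rw [← e1, e2]
    refine ⟨(g ≫ pullback.lift a b e ≫ hP.to Z : V ⟶ Z), fun V' g' hg' => hg'.elim, fun t _ => hsub _ _⟩

theorem isEffectiveUniversalEquivRel_iff [HasPullbacks C] {R X : C} (p₁ p₂ : R ⟶ X)
    (hR : SGA4.IsEquivRel p₁ p₂) (c : Cofork p₁ p₂) (hc : IsColimit c) :
    SGA4.IsEffectiveUniversalEquivRel p₁ p₂ ↔
      Nonempty (IsColimit
        ((yoneda ⋙ presheafToSheaf (Sheaf.canonicalTopology C) (Type u)).mapCocone c)) := by
  let J := Sheaf.canonicalTopology C
  let L := yoneda ⋙ presheafToSheaf J (Type u)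
  let e : ∀ (Z : C) (G : Sheaf J (Type u)), (L.obj Z ⟶ G) ≃ G.obj.obj (op Z) := fun Z G =>
    ((sheafificationAdjunction J (Type u)).homEquiv _ G).trans CategoryTheory.yonedaEquiv
  have he : ∀ {Z Z' : C} (f : Z ⟶ Z') (G : Sheaf J (Type u)) (m : L.obj Z' ⟶ G),
      e Z G (L.map f ≫ m) = G.obj.map f.op (e Z' G m) := by
    intro Z Z' f G m
    simp only [e, Equiv.trans_apply]
    rw [CategoryTheory.yonedaEquiv_naturality]
    exact congrArg _ (Adjunction.homEquiv_naturality_left _ _ _)
  obtain ⟨d, hd₁, hd₂⟩ := (hR X).2.refl (𝟙 X)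
  constructor
  · rintro ⟨B, π, hpb, hpo, hu⟩
    let hπc := hpo.isLimitFork
    let φ : c.pt ≅ B := hc.coconePointUniqueUpToIso hπc
    have hφ : c.π ≫ φ.hom = π :=
      hc.comp_coconePointUniqueUpToIso_hom hπc WalkingParallelPair.one
    have hcov : Sieve.ofArrows (fun _ : PUnit.{u + 1} => X) (fun _ => π) ∈ J B := by
      refine Sheaf.mem_finestTopology_of_forall_isSheafFor ?_
      rintro P ⟨Z, rfl⟩ W f
      rw [pullback_ofArrows_eq, Sieve.ofArrows, ← Presieve.isSheafFor_iff_generate,
        Presieve.isSheafFor_arrows_iff]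
      intro x hx
      have := hu W f
      refine ⟨EffectiveEpi.desc (pullback.snd π f) (x ⟨⟩) fun a b h => hx ⟨⟩ ⟨⟩ _ a b h,
        fun i => EffectiveEpi.fac _ _ _, fun t ht => EffectiveEpi.uniq _ _ _ _ (ht ⟨⟩)⟩
    have key : ∀ (G : Sheaf J (Type u)) (x : G.obj.obj (op X)),
        G.obj.map p₁.op x = G.obj.map p₂.op x → ∃! t : G.obj.obj (op B), G.obj.map π.op t = x := by
      intro G x hx
      have hsf := (isSheaf_iff_isSheaf_of_type _ _).1 G.property _ hcov
      rw [Sieve.ofArrows, ← Presieve.isSheafFor_iff_generate, Presieve.isSheafFor_arrows_iff] at hsf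
      obtain ⟨t, ht, hu⟩ := hsf (fun _ => x) fun _ _ W a b hab => by
        let l := hpb.lift a b hab
        refine ((congrArg (fun m => G.obj.map m.op x) (hpb.lift_fst a b hab)).symm.trans ?_).trans
          (congrArg (fun m => G.obj.map m.op x) (hpb.lift_snd a b hab))
        rw [op_comp, op_comp, Functor.map_comp_apply, Functor.map_comp_apply, hx]
      exact ⟨t, ht ⟨⟩, fun t' ht' => hu t' fun _ => ht'⟩
    have hcol : Nonempty (IsColimit (Cofork.ofπ (f := L.map p₁) (g := L.map p₂) (L.map π)
        (by rw [← L.map_comp, ← L.map_comp, hpb.w]))) := by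
      have k2 : ∀ s : Cofork (L.map p₁) (L.map p₂), ∃! l : L.obj B ⟶ s.pt, L.map π ≫ l = s.π := by
        intro s
        obtain ⟨t, ht, hu⟩ := key s.pt (e X s.pt s.π) (by rw [← he, ← he, s.condition])
        refine ⟨(e B s.pt).symm t, (e X s.pt).injective (by rw [he, Equiv.apply_symm_apply]; exact ht),
          fun l hl => ?_⟩
        have h' := hu (e B s.pt l) (by
          change s.pt.obj.map π.op (e B s.pt l) = e X s.pt s.π
          rw [← he, hl])
        rw [← h', Equiv.symm_apply_apply]
      exact ⟨Cofork.IsColimit.mk _ (fun s => (k2 s).choose) (fun s => (k2 s).choose_spec.1)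
        (fun s m hm => (k2 s).choose_spec.2 m hm)⟩
    obtain ⟨hcol⟩ := hcol
    refine ⟨(IsColimit.equivIsoColimit ((Cocone.functoriality (parallelPair p₁ p₂) L).mapIso
      (Cofork.isoCoforkOfπ c))).symm ((isColimitMapCoconeCoforkEquiv L c.condition).symm ?_)⟩
    refine hcol.ofIsoColimit (Cofork.ext (L.mapIso φ.symm) ?_)
    simp only [Cofork.π_ofπ, Functor.mapIso_hom, Iso.symm_hom, ← L.map_comp]
    rw [← hφ, Category.assoc, φ.hom_inv_id, Category.comp_id]
  · rintro ⟨h⟩
    let hL := isColimitMapCoconeCoforkEquiv L c.condition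
      (IsColimit.equivIsoColimit ((Cocone.functoriality (parallelPair p₁ p₂) L).mapIso
        (Cofork.isoCoforkOfπ c)) h)
    have hsurj : Presheaf.IsLocallySurjective J (yoneda.map c.π) := by
      rw [← Presheaf.isLocallySurjective_presheafToSheaf_map_iff, Sheaf.isLocallySurjective_iff_epi]
      exact ⟨fun a b hab => Cofork.IsColimit.hom_ext hL hab⟩
    have hcov : ∀ {W : C} (x : W ⟶ c.pt),
        Sieve.ofArrows (fun _ : PUnit.{u + 1} => pullback c.π x) (fun _ => pullback.snd c.π x) ∈
          J W := by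
      intro W x
      refine J.superset_covering ?_
        (Presheaf.imageSieve_mem J (yoneda.map c.π) (x : (yoneda.obj c.pt).obj (op W)))
      intro V g ⟨a, ha⟩
      exact (Sieve.mem_ofArrows_iff ..).2 ⟨⟨⟩, pullback.lift a g ha, (pullback.lift_snd _ _ _).symm⟩
    -- effectivity
    have hpb : IsPullback p₁ p₂ c.π c.π := by
      let r : ∀ W : C, (W ⟶ X) → (W ⟶ X) → Prop := fun W a b => ∃ f : W ⟶ R, f ≫ p₁ = a ∧ f ≫ p₂ = b
      let st : ∀ W : C, Setoid (W ⟶ X) := fun W => ⟨r W, (hR W).2⟩
      let Q : Cᵒᵖ ⥤ Type u :=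
        { obj := fun W => Quotient (st W.unop)
          map := fun {W W'} g => ↾(Quotient.map (fun a => g.unop ≫ a) (by
            rintro a b ⟨f, rfl, rfl⟩
            exact ⟨g.unop ≫ f, Category.assoc _ _ _, Category.assoc _ _ _⟩))
          map_id := fun W => by
            ext q
            induction q using Quotient.inductionOn
            exact congrArg (Quotient.mk _) (Category.id_comp _)
          map_comp := fun g g' => by
            ext q
            induction q using Quotient.inductionOn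
            exact congrArg (Quotient.mk _) (Category.assoc _ _ _) }
      let q : yoneda.obj X ⟶ Q :=
        { app := fun W => ↾fun a => Quotient.mk (st W.unop) a
          naturality := fun W W' g => rfl }
      let φ : Q ⟶ yoneda.obj c.pt :=
        { app := fun W => ↾(Quotient.lift (fun a => a ≫ c.π) (by
            rintro a b ⟨f, rfl, rfl⟩
            simp [c.condition]))
          naturality := fun W W' g => by
            ext z
            induction z using Quotient.inductionOn
            exact Category.assoc _ _ _ }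
      have hW : J.W φ := by
        intro G hG
        let G' : Sheaf J (Type u) := ⟨G, hG⟩
        constructor
        · intro a b hab
          have h0 : yoneda.map c.π ≫ a = yoneda.map c.π ≫ b := by
            have : yoneda.map c.π = q ≫ φ := rfl
            rw [this, Category.assoc, Category.assoc]
            exact congrArg (q ≫ ·) hab
          apply ((sheafificationAdjunction J (Type u)).homEquiv _ G').symm.injective
          apply Cofork.IsColimit.hom_ext hL
          let adj := sheafificationAdjunction J (Type u)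
          let a' : yoneda.obj c.pt ⟶ (sheafToPresheaf J (Type u)).obj G' := a
          let b' : yoneda.obj c.pt ⟶ (sheafToPresheaf J (Type u)).obj G' := b
          refine ((adj.homEquiv_naturality_left_symm (yoneda.map c.π) a').symm.trans ?_).trans
            (adj.homEquiv_naturality_left_symm (yoneda.map c.π) b')
          exact congrArg _ h0
        · intro g
          obtain ⟨l, hl⟩ := Cofork.IsColimit.desc' hL ((e X G').symm (yonedaEquiv (q ≫ g))) (by
            apply (e R G').injective
            rw [he, he, Equiv.apply_symm_apply]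
            have : q.app (op R) (𝟙 R ≫ p₁) = q.app (op R) (𝟙 R ≫ p₂) :=
              Quotient.sound ⟨𝟙 R, rfl, rfl⟩
            rw [CategoryTheory.yonedaEquiv_naturality, CategoryTheory.yonedaEquiv_naturality]
            exact congrArg (g.app (op R)) this)
          refine ⟨(sheafificationAdjunction J (Type u)).homEquiv _ G' l, ?_⟩
          have hq : q ≫ φ ≫ (sheafificationAdjunction J (Type u)).homEquiv _ G' l = q ≫ g := by
            apply yonedaEquiv.injective
            rw [← Category.assoc, show q ≫ φ = yoneda.map c.π from rfl,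
              ← CategoryTheory.yonedaEquiv_naturality]
            refine (he c.π G' l).symm.trans ?_
            rw [show L.map c.π ≫ l = _ from hl, Equiv.apply_symm_apply]
          ext W z
          induction z using Quotient.inductionOn with
          | h a => exact ConcreteCategory.congr_hom (congr_app hq W) a
      have hinj := ((W_iff_bij J φ).1 hW).1
      have hex : ∀ (W : C) (a b : W ⟶ X), a ≫ c.π = b ≫ c.π → ∃ l : W ⟶ R, l ≫ p₁ = a ∧ l ≫ p₂ = b := by
        intro W a b hab
        let S := Presheaf.equalizerSieve (F := Q) (X := op W) (q.app (op W) a) (q.app (op W) b)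
        have hS : S ∈ J W := Presheaf.equalizerSieve_mem J φ _ _ hab
        have hloc : ∀ ⦃V : C⦄ (g : V ⟶ W), S g → ∃ f : V ⟶ R, f ≫ p₁ = g ≫ a ∧ f ≫ p₂ = g ≫ b :=
          fun V g hg => Quotient.exact (s := st V) hg
        choose f hf₁ hf₂ using hloc
        obtain ⟨l, hl, -⟩ := Sheaf.isSheaf_yoneda_obj R S hS (fun V g hg => f g hg) (by
          intro V₁ V₂ V g₁ g₂ k₁ k₂ m₁ m₂ hk
          apply (hR V).1
          refine Prod.ext ?_ ?_
          · change (g₁ ≫ f k₁ m₁) ≫ p₁ = (g₂ ≫ f k₂ m₂) ≫ p₁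
            rw [Category.assoc, Category.assoc, hf₁, hf₁, reassoc_of% hk]
          · change (g₁ ≫ f k₁ m₁) ≫ p₂ = (g₂ ≫ f k₂ m₂) ≫ p₂
            rw [Category.assoc, Category.assoc, hf₂, hf₂, reassoc_of% hk])
        exact ⟨l, hom_ext_of_cover hS fun V g hg => by
            rw [← Category.assoc, show g ≫ l = f g hg from hl g hg, hf₁],
          hom_ext_of_cover hS fun V g hg => by
            rw [← Category.assoc, show g ≫ l = f g hg from hl g hg, hf₂]⟩
      choose lift hl₁ hl₂ using hex
      exact IsPullback.of_isLimit' ⟨c.condition⟩ (PullbackCone.IsLimit.mk _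
        (fun s => lift _ s.fst s.snd s.condition) (fun s => hl₁ ..) (fun s => hl₂ ..)
        (fun s m h1 h2 => (hR s.pt).1 (Prod.ext (h1.trans (hl₁ ..).symm) (h2.trans (hl₂ ..).symm))))
    refine ⟨c.pt, c.π, hpb, ?_, fun B' g => ?_⟩
    · refine IsPushout.of_isColimit' ⟨c.condition⟩ (PushoutCocone.IsColimit.mk _
        (fun s => hc.desc (Cofork.ofπ s.inl ?_)) (fun s => Cofork.IsColimit.π_desc hc) ?_ ?_)
      · have huv : s.inl = s.inr := by simpa [reassoc_of% hd₁, reassoc_of% hd₂] using d ≫= s.condition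
        rw [huv]
        simpa [huv] using s.condition
      · intro s
        refine (Cofork.IsColimit.π_desc hc).trans ?_
        simpa [reassoc_of% hd₁, reassoc_of% hd₂] using d ≫= s.condition
      · intro s m h1 _
        refine Cofork.IsColimit.hom_ext hc ?_
        exact (Cofork.IsColimit.π_desc hc).symm ▸ h1
    · have h2 := hcov g
      have key : ∀ {Z : C} (k : pullback c.π g ⟶ Z)
          (_ : ∀ {W : C} (a b : W ⟶ pullback c.π g),
            a ≫ pullback.snd c.π g = b ≫ pullback.snd c.π g → a ≫ k = b ≫ k),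
          ∃! l : B' ⟶ Z, pullback.snd c.π g ≫ l = k := by
        intro Z k hk
        obtain ⟨l, hl, hu⟩ := existsUnique_desc h2 (fun _ => k) fun _ _ W a b hab => hk a b hab
        exact ⟨l, hl ⟨⟩, fun l' h' => hu l' fun _ => h'⟩
      exact ⟨⟨{
        desc := fun k hk => (key k hk).choose
        fac := fun k hk => (key k hk).choose_spec.1
        uniq := fun k hk m hm => (key k hk).choose_spec.2 m hm }⟩⟩

end Groth.Agent.SGA45
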