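import Groth.Prelude.Def_SGA4a
import Mathlib.CategoryTheory.Sites.CartesianClosed
import Mathlib.CategoryTheory.Comma.Over.Pullback
import Mathlib.CategoryTheory.Monoidal.Closed.FunctorToTypes
import Mathlib.CategoryTheory.Monoidal.Closed.Types

set_option autoImplicit false
universe u v

open CategoryTheory Limits MonoidalCategory CartesianMonoidalCategory

namespace Groth.Agent.SGA45.InternalHom

/-- the product functor with the chosen cartesian monoidal product -/
noncomputable def starForgetIso {C : Type u} [Category.{v} C] [CartesianMonoidalCategory C]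
    [HasBinaryProducts C] (Z : C) : Over.star Z ⋙ Over.forget Z ≅ tensorLeft Z :=
  NatIso.ofComponents
    (fun Y => (
      { hom := lift (prod.fst : Z ⨯ Y ⟶ Z) prod.snd
        inv := prod.lift (fst Z Y) (snd Z Y)
        hom_inv_id := by ext <;> simp
        inv_hom_id := by apply CartesianMonoidalCategory.hom_ext <;> simp [lift_fst, lift_snd, prod.lift_fst, prod.lift_snd] } : Z ⨯ Y ≅ Z ⊗ Y))
    (fun {Y Y'} f => by
      apply CartesianMonoidalCategory.hom_ext
      · show (prod.map (𝟙 Z) f ≫ lift prod.fst prod.snd) ≫ fst Z Y' = (lift (prod.fst : Z ⨯ Y ⟶ Z) prod.snd ≫ (Z ◁ f)) ≫ fst Z Y'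
        simp only [Category.assoc, whiskerLeft_fst, lift_fst, prod.map_fst, Category.comp_id]
      · show (prod.map (𝟙 Z) f ≫ lift prod.fst prod.snd) ≫ snd Z Y' = (lift (prod.fst : Z ⨯ Y ⟶ Z) prod.snd ≫ (Z ◁ f)) ≫ snd Z Y'
        simp only [Category.assoc, whiskerLeft_snd, lift_snd, prod.map_snd, lift_snd_assoc])

lemma star_rightAdjoint_iso {C : Type u} [Category.{v} C] [CartesianMonoidalCategory C]
    [HasBinaryProducts C] (Z Y : C) {_ : Closed Z} [(Over.star Z).IsLeftAdjoint] :
    Nonempty (((Over.star Z).rightAdjoint).obj ((Over.star Z).obj Y) ≅ (ihom Z).obj Y) := by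
  have h := ((Adjunction.ofIsLeftAdjoint (Over.star Z)).comp (Over.forgetAdjStar Z))
  exact ⟨((h.ofNatIsoLeft (starForgetIso Z)).rightAdjointUniq (ihom.adjunction Z)).app Y⟩

lemma push_ihom_iso {C : Type*} [Category C] {D : Type*} [Category D] [CartesianMonoidalCategory C]
    [CartesianMonoidalCategory D] {F : D ⥤ C} {G : C ⥤ D} (adj : F ⊣ G) (Y : D)
    [∀ B, PreservesLimit (pair Y B) F] {_ : Closed Y} {_ : Closed (F.obj Y)} (X : C) :
    Nonempty (G.obj ((ihom (F.obj Y)).obj X) ≅ (ihom Y).obj (G.obj X)) := by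
  have h1 := adj.comp (ihom.adjunction (F.obj Y))
  have h2 := (ihom.adjunction Y).comp adj
  exact ⟨((h1.ofNatIsoLeft (CartesianMonoidalCategory.prodComparisonNatIso F Y).symm).rightAdjointUniq h2).app X⟩

end Groth.Agent.SGA45.InternalHom
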